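import Groth.Agent.Lib.Unip23.BaseChange
import Groth.Agent.Lib.HopfFF23.Range
import Mathlib.RingTheory.HopfAlgebra.Quotient
import Mathlib.Algebra.Polynomial.AlgebraMap

/-!
# Primitive elements and unipotence
-/

universe u v w

open TensorProduct HopfRep WithConv
open scoped Groth.Agent.CoalgH23

noncomputable section

namespace Groth.Agent.Unip23

open Groth.Agent.CoalgH23

section Ga

variable (k : Type u) [Field k]

/-- The bialgebra of the additive group. -/
@[reducible] def gaBialg : Bialgebra k (Polynomial k) :=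
  Bialgebra.ofAlgHom
    (Polynomial.aeval ((Polynomial.X : Polynomial k) ⊗ₜ[k] (1 : Polynomial k) + (1 : Polynomial k) ⊗ₜ[k] Polynomial.X))
    (Polynomial.aeval (0 : k))
    (by ext; simp [Algebra.TensorProduct.one_def, TensorProduct.add_tmul, TensorProduct.tmul_add, add_assoc])
    (by ext; simp) (by ext; simp)

/-- The Hopf algebra of the additive group. -/
@[reducible] def gaHopf : HopfAlgebra k (Polynomial k) :=
  letI := gaBialg k
  HopfAlgebra.ofAlgHom (Polynomial.aeval (-Polynomial.X))
    (by
      refine Polynomial.algHom_ext ?_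
      show Algebra.TensorProduct.lift (Polynomial.aeval (-Polynomial.X)) (AlgHom.id k (Polynomial k)) (fun _ _ => Commute.all _ _) (Polynomial.aeval _ Polynomial.X) =
        algebraMap k (Polynomial k) (Polynomial.aeval (0 : k) (Polynomial.X : Polynomial k))
      rw [Polynomial.aeval_X, Polynomial.aeval_X]
      simp)
    (by
      refine Polynomial.algHom_ext ?_
      show Algebra.TensorProduct.lift (AlgHom.id k (Polynomial k)) (Polynomial.aeval (-Polynomial.X)) (fun _ _ => Commute.all _ _) (Polynomial.aeval _ Polynomial.X) =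
        algebraMap k (Polynomial k) (Polynomial.aeval (0 : k) (Polynomial.X : Polynomial k))
      rw [Polynomial.aeval_X, Polynomial.aeval_X]
      simp)

end Ga

variable {k : Type u} [Field k] {A : Type v} [CommRing A] [HopfAlgebra k A]

/-- Primitive elements. -/
def IsPrim (x : A) : Prop :=
  CoalgebraStruct.comul (R := k) x = x ⊗ₜ[k] (1 : A) + (1 : A) ⊗ₜ[k] x

theorem counit_of_isPrim {x : A} (hx : IsPrim (k := k) x) : CoalgebraStruct.counit (R := k) x = 0 := by
  have h := congrArg ((TensorProduct.lid k A).toLinearMap ∘ₗ (CoalgebraStruct.counit (R := k)).rTensor A)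
    hx
  simp at h
  exact h.resolve_right fun e => one_ne_zero (α := k) (by simpa using congrArg (CoalgebraStruct.counit (R := k)) e)

theorem antipode_of_isPrim {x : A} (hx : IsPrim (k := k) x) : HopfAlgebra.antipode k x = -x := by
  have h := HopfAlgebra.mul_antipode_rTensor_comul_apply (R := k) x
  rw [hx, counit_of_isPrim hx, map_add, map_add, LinearMap.rTensor_tmul, LinearMap.rTensor_tmul,
    LinearMap.mul'_apply, LinearMap.mul'_apply, map_zero, mul_one, HopfAlgebra.antipode_one, one_mul] at h
  exact eq_neg_of_add_eq_zero_left h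

/-- The quotient by a primitive element is a quotient by a Hopf ideal. -/
theorem isHopfIdeal_span_prim {x : A} (hx : IsPrim (k := k) x) : (Ideal.span {x}).IsHopfIdeal k := by
  refine { counit_eq_zero := ?_, map_mkQ_comul_eq_zero := ?_, antipode_mem := ?_ }
  · intro y hy
    obtain ⟨c, rfl⟩ := Ideal.mem_span_singleton'.1 hy
    rw [Bialgebra.counit_mul, counit_of_isPrim hx, mul_zero]
  · intro y hy
    obtain ⟨c, rfl⟩ := Ideal.mem_span_singleton'.1 hy
    rw [Bialgebra.comul_mul, hx, mul_add, map_add]
    have h : ∀ (z : A ⊗[k] A) (a b : A), (a ∈ Ideal.span {x} ∨ b ∈ Ideal.span {x}) →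
        TensorProduct.map ((Ideal.span {x}).restrictScalars k).mkQ ((Ideal.span {x}).restrictScalars k).mkQ
          (z * (a ⊗ₜ[k] b)) = 0 := by
      intro z a b hab
      induction z with
      | zero => simp
      | add p q hp hq => simp only [add_mul, map_add, hp, hq, add_zero]
      | tmul p q =>
        rw [Algebra.TensorProduct.tmul_mul_tmul, TensorProduct.map_tmul]
        rcases hab with h | h
        · rw [Submodule.mkQ_apply, (Submodule.Quotient.mk_eq_zero _).2 (show p * a ∈ (Ideal.span {x}).restrictScalars k from (Ideal.span {x}).mul_mem_left p h),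
            TensorProduct.zero_tmul]
        · rw [Submodule.mkQ_apply _ (q * b), (Submodule.Quotient.mk_eq_zero _).2 (show q * b ∈ (Ideal.span {x}).restrictScalars k from (Ideal.span {x}).mul_mem_left q h),
            TensorProduct.tmul_zero]
    rw [h _ x 1 (Or.inl (Ideal.mem_span_singleton_self x)), h _ 1 x (Or.inr (Ideal.mem_span_singleton_self x)),
      add_zero]
  · intro y hy
    obtain ⟨c, rfl⟩ := Ideal.mem_span_singleton'.1 hy
    rw [HopfAlgebra.antipode_mul_distrib, antipode_of_isPrim hx, mul_neg]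
    exact neg_mem ((Ideal.span {x}).mul_mem_left _ (Ideal.mem_span_singleton_self x))

/-- A bialgebra map sends the filtration into the filtration. -/
theorem map_fixFil {B : Type w} [CommRing B] [HopfAlgebra k B] (φ : A →ₐc[k] B) :
    ∀ (n : ℕ) {a : A}, a ∈ fixFil k A A n → φ a ∈ fixFil k B B n := by
  intro n
  induction n with
  | zero => intro a ha; rw [show a = 0 from (Submodule.mem_bot k).1 ha, map_zero]; exact zero_mem _
  | succ n ih =>
    intro a ha
    obtain ⟨z, hz⟩ := mem_fixFil_succ.1 ha
    refine mem_fixFil_succ.2 ?_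
    show CoalgebraStruct.comul (R := k) (φ a) - φ a ⊗ₜ[k] (1 : B) ∈ _
    rw [show CoalgebraStruct.comul (R := k) (φ a) - φ a ⊗ₜ[k] (1 : B) =
      TensorProduct.map (φ : A →ₗ[k] B) (φ : A →ₗ[k] B) ((fixFil k A A n).subtype.rTensor A z) by
        rw [hz, map_sub, TensorProduct.map_tmul, ← CoalgHomClass.map_comp_comul_apply φ a]
        congr 1
        simp]
    clear hz
    induction z with
    | zero => simp
    | add p q hp hq => simp only [map_add]; exact add_mem hp hq
    | tmul p q => exact ⟨⟨φ p.1, ih p.2⟩ ⊗ₜ[k] φ q, rfl⟩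

theorem prim_pow_mem_fixFil {x : A} (hx : IsPrim (k := k) x) : ∀ n, x ^ n ∈ fixFil k A A (n + 1) := by
  intro n
  induction n using Nat.strong_induction_on with
  | _ n ih =>
    refine mem_fixFil_succ.2 ?_
    show CoalgebraStruct.comul (R := k) (x ^ n) - (x ^ n) ⊗ₜ[k] (1 : A) ∈ _
    rw [Bialgebra.comul_pow, hx, (Commute.all _ _).add_pow, Finset.sum_range_succ]
    simp only [Algebra.TensorProduct.tmul_pow, one_pow, Algebra.TensorProduct.tmul_mul_tmul, one_mul, mul_one,
      Nat.sub_self, pow_zero, Nat.choose_self, Nat.cast_one, add_sub_cancel_right]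
    refine Submodule.sum_mem _ fun i hi => ?_
    have hi' : i < n := Finset.mem_range.1 hi
    refine ⟨(n.choose i : k) • ((⟨x ^ i, fixFil_mono (show i + 1 ≤ n by omega) (ih i hi')⟩ : fixFil k A A n) ⊗ₜ[k] (x ^ (n - i))), ?_⟩
    rw [map_smul, LinearMap.rTensor_tmul, Submodule.subtype_apply, Nat.cast_smul_eq_nsmul, nsmul_eq_mul, mul_comm]

/-- A comodule vector with coefficients in the exhausted part gives a fixed vector. -/
theorem fixedPts_ne_bot_of_coeff {V : Type w} [AddCommGroup V] [Module k V] [Comod k A V] {w : V} (hw : w ≠ 0)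
    (h : ∀ φ : V →ₗ[k] k, ∃ n, lslice φ (Comod.coact (k := k) (A := A) w) ∈ fixFil k A A n) [Module.Finite k V] :
    fixedPts k A V ≠ ⊥ := by
  classical
  let P : ℕ → V → Prop := fun n v => ∀ φ : V →ₗ[k] k,
    lslice φ (Comod.coact (k := k) (A := A) v) ∈ fixFil k A A n
  have hcoef : ∀ (φ : V →ₗ[k] k) (v : V),
      CoalgebraStruct.counit (R := k) (lslice φ (Comod.coact (k := k) (A := A) v)) = φ v := fun φ v => by
    rw [apply_lslice]
    exact congrArg φ (LinearMap.congr_fun actL_counit v)
  have hex : ∃ n, ∃ v : V, v ≠ 0 ∧ P n v := by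
    let b := Module.finBasis k V
    choose f hf using fun i => h (b.coord i)
    refine ⟨Finset.univ.sup f, w, hw, fun φ => ?_⟩
    have e : lslice φ (Comod.coact (k := k) (A := A) w) =
        ∑ i, φ (b i) • lslice (b.coord i) (Comod.coact (k := k) (A := A) w) := by
      generalize Comod.coact (k := k) (A := A) w = z
      induction z with
      | zero => simp
      | add p q hp hq => simp only [map_add, hp, hq, smul_add, Finset.sum_add_distrib]
      | tmul p q =>
        simp only [lslice_tmul, smul_smul, ← Finset.sum_smul]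
        congr 1
        conv_lhs => rw [← b.sum_repr p, map_sum]
        simp [mul_comm]
    rw [e]
    exact Submodule.sum_mem _ fun i _ =>
      Submodule.smul_mem _ _ (fixFil_mono (Finset.le_sup (Finset.mem_univ i)) (hf i))
  obtain ⟨v, hv, hP⟩ := Nat.find_spec hex
  refine (Submodule.ne_bot_iff _).2 ⟨v, ?_, hv⟩
  obtain ⟨m, hm⟩ : ∃ m, Nat.find hex = m + 1 := by
    rcases hn : Nat.find hex with _ | m
    · refine absurd ((Module.forall_dual_apply_eq_zero_iff k v).1 fun φ => ?_) hv
      have h0 := hP φ
      rw [hn, show fixFil k A A 0 = ⊥ from rfl, Submodule.mem_bot] at h0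
      rw [← hcoef φ v, h0, map_zero]
    · exact ⟨m, rfl⟩
  refine mem_fixedPts_iff'.2 fun χ => ?_
  by_contra hne
  refine Nat.find_min hex (show m < Nat.find hex by omega) ⟨_, sub_ne_zero.2 hne, fun φ => ?_⟩
  have e : lslice φ (Comod.coact (k := k) (A := A) (χ • v - χ.ofConv 1 • v)) =
      χ • lslice φ (Comod.coact (k := k) (A := A) v) - χ.ofConv 1 • lslice φ (Comod.coact (k := k) (A := A) v) := by
    rw [map_sub, map_sub]
    congr 1
    · exact lslice_coact_smul φ χ v
    · rw [map_smul, map_smul]
  rw [e]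
  refine smul_sub_mem ?_ χ
  rw [← hm]
  exact hP φ

theorem conv_mul_antipode :
    (toConv (AlgHom.id k A) * toConv (HopfAlgebra.antipodeAlgHom k A) : WithConv (A →ₐ[k] A)) = 1 := by
  refine ofConv_injective (AlgHom.ext fun c => ?_)
  rw [show ∀ f g : WithConv (A →ₐ[k] A), (f * g).ofConv c = (f * g) c from fun _ _ => rfl,
    AlgHom.convMul_apply]
  show _ = algebraMap k A (CoalgebraStruct.counit c)
  rw [← HopfAlgebra.mul_antipode_lTensor_comul_apply]
  induction CoalgebraStruct.comul (R := k) c with
  | zero => simp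
  | add x y hx hy => simp only [map_add, hx, hy]
  | tmul x y => simp

/-- The elements invariant under the kernel of a primitive element are polynomials in it. -/
theorem mem_adjoin_of_coinvariant [Algebra.FiniteType k A] {x : A} (hx : IsPrim (k := k) x) {b : A}
    (hb : (Ideal.Quotient.mkₐ k (Ideal.span {x})).toLinearMap.lTensor A (CoalgebraStruct.comul (R := k) b) =
      b ⊗ₜ[k] 1) : b ∈ (Polynomial.aeval x : Polynomial k →ₐ[k] A).range := by
  letI := gaHopf k
  let ψ : Polynomial k →ₐc[k] A := BialgHom.ofAlgHom (Polynomial.aeval x)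
    (by
      refine Polynomial.algHom_ext ?_
      show CoalgebraStruct.counit (R := k) (Polynomial.aeval x Polynomial.X) = Polynomial.aeval (0 : k) (Polynomial.X : Polynomial k)
      rw [Polynomial.aeval_X, Polynomial.aeval_X, counit_of_isPrim hx])
    (by
      refine Polynomial.algHom_ext ?_
      simp only [AlgHom.comp_apply, Polynomial.aeval_X]
      show Algebra.TensorProduct.map _ _ (Polynomial.aeval _ Polynomial.X) = CoalgebraStruct.comul (R := k) x
      rw [Polynomial.aeval_X, hx]
      simp)
  haveI : Algebra.FiniteType k (Polynomial k) := inferInstance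
  have hff := HopfFF23.faithfullyFlat_range_val ψ
  let P : Subalgebra k A := (ψ : Polynomial k →ₐ[k] A).range
  haveI : Module.FaithfullyFlat P A := hff
  let xL : A →ₐ[k] A ⊗[P] A := (Algebra.TensorProduct.includeLeft : A →ₐ[P] A ⊗[P] A).restrictScalars k
  let xR : A →ₐ[k] A ⊗[P] A := (Algebra.TensorProduct.includeRight : A →ₐ[P] A ⊗[P] A).restrictScalars k
  have hP : xL x = xR x := by
    have hxP : x ∈ P := ⟨Polynomial.X, Polynomial.aeval_X x⟩
    show x ⊗ₜ[P] (1 : A) = (1 : A) ⊗ₜ[P] x
    rw [show x = (⟨x, hxP⟩ : P) • (1 : A) by simp [Subalgebra.smul_def], TensorProduct.smul_tmul]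
  let d : A →ₐ[k] A ⊗[P] A := (toConv (xL.comp (HopfAlgebra.antipodeAlgHom k A)) * toConv xR).ofConv
  have hd : d x = 0 := by
    show (toConv (xL.comp (HopfAlgebra.antipodeAlgHom k A)) * toConv xR) x = 0
    rw [AlgHom.convMul_apply, hx, map_add, Algebra.TensorProduct.lift_tmul, Algebra.TensorProduct.lift_tmul]
    simp only [AlgHom.comp_apply, HopfAlgebra.antipodeAlgHom_apply, map_one, mul_one, one_mul,
      antipode_of_isPrim hx, map_neg, hP, neg_add_cancel]
  let d' : (A ⧸ Ideal.span {x}) →ₐ[k] A ⊗[P] A := Ideal.Quotient.liftₐ _ d fun a ha => by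
    obtain ⟨c, rfl⟩ := Ideal.mem_span_singleton'.1 ha
    rw [map_mul, hd, mul_zero]
  have hLR : toConv xR = toConv xL * toConv d := by
    have h1 : toConv xL * toConv (xL.comp (HopfAlgebra.antipodeAlgHom k A)) = 1 := by
      have := congrArg (fun z : WithConv (A →ₐ[k] A) => toConv (xL.comp z.ofConv))
        (conv_mul_antipode (k := k) (A := A))
      simp only [AlgHom.comp_convMul_distrib, HopfFF23.comp_convOne] at this
      exact this
    show _ = toConv xL * (toConv (xL.comp (HopfAlgebra.antipodeAlgHom k A)) * toConv xR)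
    exact ((congrArg (· * toConv xR) h1).trans (one_mul (toConv xR))).symm.trans (mul_assoc (G := WithConv (A →ₐ[k] A ⊗[P] A)) _ _ _)
  have key : xR b = xL b := by
    have h1 := AlgHom.congr_fun (congrArg WithConv.ofConv hLR) b
    rw [ofConv_toConv] at h1
    rw [h1]
    show (toConv xL * toConv d) b = _
    rw [AlgHom.convMul_apply]
    have h2 : ∀ z : A ⊗[k] A, Algebra.TensorProduct.lift xL d (fun _ _ => Commute.all _ _) z =
        Algebra.TensorProduct.lift xL d' (fun _ _ => Commute.all _ _)
          ((Ideal.Quotient.mkₐ k (Ideal.span {x})).toLinearMap.lTensor A z) := by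
      intro z
      induction z with
      | zero => simp
      | add p q hp hq => simp only [map_add, hp, hq]
      | tmul p q =>
        simp only [LinearMap.lTensor_tmul, Algebra.TensorProduct.lift_tmul, d', Ideal.Quotient.liftₐ_apply]
        rfl
    refine (h2 _).trans ?_
    rw [hb, Algebra.TensorProduct.lift_tmul, map_one, mul_one]
  let R : Submodule P A := LinearMap.range (Algebra.linearMap P A)
  have h1 : R.mkQ.lTensor A ((1 : A) ⊗ₜ[P] b) = R.mkQ.lTensor A (b ⊗ₜ[P] (1 : A)) := congrArg _ key
  have h0 : R.mkQ (1 : A) = 0 := (Submodule.Quotient.mk_eq_zero R).2 ⟨1, map_one (algebraMap P A)⟩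
  have h2 : (1 : A) ⊗ₜ[P] R.mkQ b = (1 : A) ⊗ₜ[P] 0 := by
    rw [LinearMap.lTensor_tmul, LinearMap.lTensor_tmul] at h1
    rw [h1, h0, TensorProduct.tmul_zero, TensorProduct.tmul_zero]
  obtain ⟨p, hp⟩ := (Submodule.Quotient.mk_eq_zero R).1
    (Module.FaithfullyFlat.tensorProduct_mk_injective (A := P) (B := A) _ h2)
  exact hp ▸ p.2

/-- The map induced on the quotient by the kernel, as a bialgebra map. -/
theorem exists_kerLift {B : Type w} [CommRing B] [HopfAlgebra k B] (φ : A →ₐc[k] B)
    [(RingHom.ker (φ : A →ₐ[k] B)).IsHopfIdeal k] :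
    ∃ g : (A ⧸ RingHom.ker (φ : A →ₐ[k] B)) →ₐc[k] B, Function.Injective g ∧
      ∀ a, g (Ideal.Quotient.mk _ a) = φ a := by
  let I := RingHom.ker (φ : A →ₐ[k] B)
  let g : (A ⧸ I) →ₐ[k] B := Ideal.Quotient.liftₐ I (φ : A →ₐ[k] B) fun a ha => ha
  have hc1 : (Bialgebra.counitAlgHom k B).comp g = Bialgebra.counitAlgHom k (A ⧸ I) :=
    Ideal.Quotient.algHom_ext k (AlgHom.ext fun a => CoalgHomClass.counit_comp_apply φ a)
  have hc2 : (Algebra.TensorProduct.map g g).comp (Bialgebra.comulAlgHom k (A ⧸ I)) =
      (Bialgebra.comulAlgHom k B).comp g := by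
    refine Ideal.Quotient.algHom_ext k (AlgHom.ext fun a => ?_)
    show Algebra.TensorProduct.map g g (CoalgebraStruct.comul (R := k) (Ideal.Quotient.mk I a)) =
      CoalgebraStruct.comul (R := k) (φ a)
    rw [← CoalgHomClass.map_comp_comul_apply φ a,
      show (Ideal.Quotient.mk I a) = (Bialgebra.Quotient.mkBialgHom (R := k) I) a from rfl,
      ← CoalgHomClass.map_comp_comul_apply]
    induction CoalgebraStruct.comul (R := k) a with
    | zero => simp
    | add x y hx hy => simp only [map_add, hx, hy]
    | tmul x y => rfl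
  exact ⟨BialgHom.ofAlgHom g hc1 hc2, RingHom.lift_injective_of_ker_le_ideal I (fun a ha => ha) le_rfl,
    fun a => rfl⟩

/-- A group is unipotent if it has a primitive element whose kernel is unipotent. -/
theorem isUnipotent_of_prim [Algebra.FiniteType k A] {x : A} (hx : IsPrim (k := k) x)
    [(Ideal.span {x}).IsHopfIdeal k] (hD : IsUnipotent k (A ⧸ Ideal.span {x})) : IsUnipotent k A := by
  intro V _ _ c _ _
  let π : A →ₗc[k] A ⧸ Ideal.span {x} :=
    (Bialgebra.Quotient.mkBialgHom (R := k) (Ideal.span {x}) : A →ₗc[k] A ⧸ Ideal.span {x})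
  let cD : Comod k (A ⧸ Ideal.span {x}) V := pushComod π c
  obtain ⟨w, hw, hw0⟩ := Submodule.exists_mem_ne_zero_of_ne_bot (@hD V _ _ cD inferInstance inferInstance)
  have hw' : (π : A →ₗ[k] A ⧸ Ideal.span {x}).lTensor V (Comod.coact (k := k) (A := A) w) = w ⊗ₜ[k] 1 := hw
  refine fixedPts_ne_bot_of_coeff hw0 fun φ => ?_
  let m : V →ₗ[k] A := lslice φ ∘ₗ Comod.coact (k := k) (A := A)
  have hm : CoalgebraStruct.comul (R := k) (m w) = m.rTensor A (Comod.coact (k := k) (A := A) w) :=
    eq_of_slice_eq fun χ => by rw [slice_rTensor]; exact (lslice_coact_smul φ (toConv χ) w).symm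
  obtain ⟨q, hq⟩ := mem_adjoin_of_coinvariant (b := m w) hx (by
    rw [hm, show (Ideal.Quotient.mkₐ k (Ideal.span {x})).toLinearMap = (π : A →ₗ[k] A ⧸ Ideal.span {x}) from rfl,
      ← LinearMap.comp_apply, LinearMap.lTensor_comp_rTensor, ← LinearMap.rTensor_comp_lTensor,
      LinearMap.comp_apply, hw', LinearMap.rTensor_tmul])
  refine ⟨q.natDegree + 1, ?_⟩
  show m w ∈ fixFil k A A _
  rw [← hq]
  show Polynomial.aeval x q ∈ _
  rw [Polynomial.aeval_eq_sum_range]
  exact Submodule.sum_mem _ fun i hi => Submodule.smul_mem _ _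
    (fixFil_mono (by simp at hi; omega) (prim_pow_mem_fixFil hx i))

theorem isUnipotent_of_surjective {B : Type w} [CommRing B] [HopfAlgebra k B] (φ : A →ₐc[k] B)
    (hφ : Function.Surjective φ) (hU : IsUnipotent k A) : IsUnipotent k B := by
  refine isUnipotent_of_exhaustive fun b => ?_
  obtain ⟨a, rfl⟩ := hφ b
  obtain ⟨n, hn⟩ := exists_mem_fixFil hU a
  exact ⟨n, map_fixFil φ n hn⟩

/-- A nontrivial unipotent group has a nonzero primitive element. -/
theorem exists_prim_ne_zero (hU : IsUnipotent k A) (hne : ¬ ∀ a : A, a ∈ Submodule.span k {(1 : A)}) :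
    ∃ x : A, x ≠ 0 ∧ IsPrim (k := k) x := by
  by_contra! h
  refine hne fun a => ?_
  obtain ⟨n, hn⟩ := exists_mem_fixFil hU a
  have key : ∀ n, fixFil k A A n ≤ fixFil k A A 1 := by
    intro n
    induction n with
    | zero => exact fixFil_mono (Nat.zero_le _)
    | succ n ih =>
      intro y hy
      have hy2 : y ∈ fixFil k A A 2 := by
        obtain ⟨z, hz⟩ := mem_fixFil_succ.1 hy
        refine mem_fixFil_succ.2 ⟨(Submodule.inclusion ih).rTensor A z, ?_⟩
        rw [← hz, ← LinearMap.rTensor_comp_apply, Submodule.subtype_comp_inclusion]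
      obtain ⟨z, hz⟩ := mem_fixFil_succ.1 hy2
      have hz' : ∀ z : fixFil k A A 1 ⊗[k] A, (fixFil k A A 1).subtype.rTensor A z =
          (1 : A) ⊗ₜ[k] lslice (CoalgebraStruct.counit (R := k)) ((fixFil k A A 1).subtype.rTensor A z) := by
        intro w
        induction w with
        | zero => simp
        | add p q hp hq => simp only [map_add, TensorProduct.tmul_add, ← hp, ← hq]
        | tmul p q =>
          obtain ⟨c, hc⟩ := Submodule.mem_span_singleton.1 ((fixFil_one_eq (k := k) (A := A)).le p.2)
          simp only [LinearMap.rTensor_tmul, Submodule.subtype_apply, ← hc]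
          simp [lslice, TensorProduct.smul_tmul]
      have e := hz' z
      rw [hz, show Comod.coact (k := k) (A := A) y = CoalgebraStruct.comul (R := k) y from rfl, map_sub,
        lslice_counit, lslice_tmul, sub_eq_iff_eq_add] at e
      have hp : IsPrim (k := k) (y - CoalgebraStruct.counit (R := k) y • (1 : A)) := by
        show CoalgebraStruct.comul (R := k) _ = _
        rw [map_sub, map_smul, Bialgebra.comul_one, e, Algebra.TensorProduct.one_def]
        simp only [TensorProduct.sub_tmul, TensorProduct.tmul_sub, TensorProduct.smul_tmul', TensorProduct.smul_tmul]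
        abel
      have h0 : y - CoalgebraStruct.counit (R := k) y • (1 : A) = 0 := by_contra fun e => h _ e hp
      rw [sub_eq_zero] at h0
      rw [h0]
      exact Submodule.smul_mem _ _ (fixFil_one_eq.ge (Submodule.mem_span_singleton_self _))
  exact (fixFil_one_eq (k := k) (A := A)).le (key n hn)

end Groth.Agent.Unip23
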