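import Groth.Agent.Lib.Unip23.Points
import Mathlib.RingTheory.Bialgebra.TensorProduct
import Mathlib.RingTheory.Flat.TorsionFree

/-!
# The fixed-point filtration under base change
-/

universe u v w

open TensorProduct HopfRep WithConv
open scoped Groth.Agent.CoalgH23

noncomputable section

namespace Groth.Agent.Unip23

open Groth.Agent.CoalgH23

/-- A coordinate ring exhausted by the filtration gives a unipotent group. -/
theorem isUnipotent_of_exhaustive {k : Type u} [Field k] {A : Type v} [CommRing A] [HopfAlgebra k A]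
    (h : ∀ a : A, ∃ n, a ∈ fixFil k A A n) : IsUnipotent k A := by
  intro V _ _ _ _ _
  classical
  let P : ℕ → V → Prop := fun n v => ∀ φ : V →ₗ[k] k,
    lslice φ (Comod.coact (k := k) (A := A) v) ∈ fixFil k A A n
  have hcoef : ∀ (φ : V →ₗ[k] k) (v : V),
      CoalgebraStruct.counit (R := k) (lslice φ (Comod.coact (k := k) (A := A) v)) = φ v := fun φ v => by
    rw [apply_lslice]
    exact congrArg φ (LinearMap.congr_fun actL_counit v)
  have hex : ∃ n, ∃ v : V, v ≠ 0 ∧ P n v := by
    obtain ⟨v, hv⟩ := exists_ne (0 : V)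
    obtain ⟨s, hs⟩ := TensorProduct.exists_finset (Comod.coact (k := k) (A := A) v)
    choose f hf using h
    refine ⟨s.sup fun i => f i.2, v, hv, fun φ => ?_⟩
    rw [hs, map_sum]
    refine Submodule.sum_mem _ fun i hi => ?_
    rw [lslice_tmul]
    exact Submodule.smul_mem _ _ (fixFil_mono (Finset.le_sup (f := fun i => f i.2) hi) (hf i.2))
  obtain ⟨v, hv, hP⟩ := Nat.find_spec hex
  refine (Submodule.ne_bot_iff _).2 ⟨v, ?_, hv⟩
  obtain ⟨m, hm⟩ : ∃ m, Nat.find hex = m + 1 := by
    rcases hn : Nat.find hex with _ | m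
    · refine absurd ((Module.forall_dual_apply_eq_zero_iff k v).1 fun φ => ?_) hv
      have h0 := hP φ
      rw [hn, show fixFil k A A 0 = ⊥ from rfl, Submodule.mem_bot] at h0
      rw [← hcoef φ v, h0, map_zero]
    · exact ⟨m, rfl⟩
  refine mem_fixedPts_iff'.2 fun χ => ?_
  by_contra hne
  refine Nat.find_min hex (show m < Nat.find hex by omega) ⟨_, sub_ne_zero.2 hne, fun φ => ?_⟩
  have e : lslice φ (Comod.coact (k := k) (A := A) (χ • v - χ.ofConv 1 • v)) =
      χ • lslice φ (Comod.coact (k := k) (A := A) v) - χ.ofConv 1 • lslice φ (Comod.coact (k := k) (A := A) v) := by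
    rw [map_sub, map_sub]
    congr 1
    · exact lslice_coact_smul φ χ v
    · rw [map_smul, map_smul]
  rw [e]
  refine smul_sub_mem ?_ χ
  rw [← hm]
  exact hP φ

section Gen

variable (R : Type u) [CommRing R] (H : Type v) [CommRing H] [HopfAlgebra R H]

/-- `Δ h - h ⊗ 1`. -/
def devR : H →ₗ[R] H ⊗[R] H := CoalgebraStruct.comul - (TensorProduct.mk R H H).flip 1

/-- The filtration over a base ring, by kernels. -/
def genFil : ℕ → Submodule R H
  | 0 => ⊥
  | n + 1 => LinearMap.ker ((genFil n).mkQ.rTensor H ∘ₗ devR R H)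

variable (S : Type w) [CommRing S] [Algebra R S]

/-- Regrouping the scalars of a tensor square of a base change. -/
def regroup : (S ⊗[R] H) ⊗[S] (S ⊗[R] H) →ₐ[S] S ⊗[R] (H ⊗[R] H) :=
  Algebra.TensorProduct.lift
    (Algebra.TensorProduct.map (AlgHom.id S S) (Algebra.TensorProduct.includeLeft : H →ₐ[R] H ⊗[R] H))
    (Algebra.TensorProduct.map (AlgHom.id S S) (Algebra.TensorProduct.includeRight : H →ₐ[R] H ⊗[R] H))
    fun _ _ => Commute.all _ _

@[simp] theorem regroup_tmul (c d : S) (a b : H) :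
    regroup R H S ((c ⊗ₜ[R] a) ⊗ₜ[S] (d ⊗ₜ[R] b)) = (c * d) ⊗ₜ[R] (a ⊗ₜ[R] b) := by
  simp [regroup]

/-- Distributing the scalars. -/
def distrib : H ⊗[R] H →ₐ[R] (S ⊗[R] H) ⊗[S] (S ⊗[R] H) :=
  Algebra.TensorProduct.lift
    (((Algebra.TensorProduct.includeLeft : S ⊗[R] H →ₐ[S] (S ⊗[R] H) ⊗[S] (S ⊗[R] H)).restrictScalars R).comp
      Algebra.TensorProduct.includeRight)
    (((Algebra.TensorProduct.includeRight : S ⊗[R] H →ₐ[S] (S ⊗[R] H) ⊗[S] (S ⊗[R] H)).restrictScalars R).comp
      Algebra.TensorProduct.includeRight)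
    fun _ _ => Commute.all _ _

@[simp] theorem distrib_tmul (a b : H) :
    distrib R H S (a ⊗ₜ[R] b) = ((1 : S) ⊗ₜ[R] a) ⊗ₜ[S] ((1 : S) ⊗ₜ[R] b) := by
  simp [distrib]

theorem regroup_distrib (z : H ⊗[R] H) : regroup R H S (distrib R H S z) = (1 : S) ⊗ₜ[R] z := by
  induction z with
  | zero => simp
  | add p q hp hq => simp only [map_add, TensorProduct.tmul_add, hp, hq]
  | tmul p q => simp

theorem comul_one_tmul (h : H) :
    CoalgebraStruct.comul (R := S) ((1 : S) ⊗ₜ[R] h) = distrib R H S (CoalgebraStruct.comul (R := R) h) := by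
  rw [TensorProduct.comul_tmul, CommSemiring.comul_apply]
  induction CoalgebraStruct.comul (R := R) h with
  | zero => simp
  | add p q hp hq => simp only [map_add, TensorProduct.tmul_add, hp, hq]
  | tmul p q => simp

theorem regroup_devR (y : S ⊗[R] H) :
    regroup R H S (devR S (S ⊗[R] H) y) = (devR R H).lTensor S y := by
  induction y with
  | zero => simp
  | add p q hp hq => simp only [map_add, hp, hq]
  | tmul c h =>
    rw [show c ⊗ₜ[R] h = c • ((1 : S) ⊗ₜ[R] h) by rw [TensorProduct.smul_tmul', smul_eq_mul, mul_one],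
      map_smul, map_smul]
    simp only [devR, LinearMap.sub_apply, LinearMap.flip_apply, TensorProduct.mk_apply, comul_one_tmul, map_sub,
      Algebra.TensorProduct.one_def, regroup_distrib, regroup_tmul, one_mul]
    rw [TensorProduct.smul_tmul', smul_eq_mul, mul_one, LinearMap.lTensor_tmul, LinearMap.sub_apply,
      LinearMap.flip_apply, TensorProduct.mk_apply, TensorProduct.tmul_sub, smul_sub, TensorProduct.smul_tmul',
      TensorProduct.smul_tmul', smul_eq_mul, mul_one]

theorem mem_genFil_succ {n : ℕ} {h : H} :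
    h ∈ genFil R H (n + 1) ↔ devR R H h ∈ LinearMap.range ((genFil R H n).subtype.rTensor H) := by
  rw [genFil, LinearMap.mem_ker, LinearMap.comp_apply]
  exact rTensor_exact H (LinearMap.exact_subtype_mkQ _) (Submodule.mkQ_surjective _) _

end Gen

variable {k : Type u} [Field k] {A : Type v} [CommRing A] [HopfAlgebra k A]

theorem genFil_eq_fixFil : ∀ n, genFil k A n = fixFil k A A n
  | 0 => rfl
  | n + 1 => by
    ext h
    rw [mem_genFil_succ, mem_fixFil_succ, genFil_eq_fixFil n]
    rfl

section Compare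

variable {R : Type u} [CommRing R] {H : Type v} [CommRing H] [HopfAlgebra R H]
variable {F : Type u} [Field F] [Algebra R F]

theorem one_tmul_mem_fixFil : ∀ (n : ℕ) {h : H}, h ∈ genFil R H n →
    (1 : F) ⊗ₜ[R] h ∈ fixFil F (F ⊗[R] H) (F ⊗[R] H) n := by
  intro n
  induction n with
  | zero =>
    intro h hh
    rw [show h = 0 from (Submodule.mem_bot R).1 hh, TensorProduct.tmul_zero]
    exact zero_mem _
  | succ n ih =>
    intro h hh
    obtain ⟨z, hz⟩ := (mem_genFil_succ R H).1 hh
    refine mem_fixFil_succ.2 ?_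
    have e : CoalgebraStruct.comul (R := F) ((1 : F) ⊗ₜ[R] h) - ((1 : F) ⊗ₜ[R] h) ⊗ₜ[F] (1 : F ⊗[R] H) =
        distrib R H F ((genFil R H n).subtype.rTensor H z) := by
      rw [hz, devR, LinearMap.sub_apply, map_sub, ← comul_one_tmul, LinearMap.flip_apply, TensorProduct.mk_apply,
        distrib_tmul, Algebra.TensorProduct.one_def]
    rw [show Comod.coact (k := F) (A := F ⊗[R] H) ((1 : F) ⊗ₜ[R] h) = CoalgebraStruct.comul (R := F) ((1 : F) ⊗ₜ[R] h)
      from rfl, e]
    clear e hz
    induction z with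
    | zero => simp
    | add p q hp hq => simp only [map_add]; exact add_mem hp hq
    | tmul p q => exact ⟨⟨(1 : F) ⊗ₜ[R] p.1, ih p.2⟩ ⊗ₜ[F] ((1 : F) ⊗ₜ[R] q), by simp⟩

variable [Module.Flat R F]

theorem fixFil_le (n : ℕ) : ∀ y ∈ fixFil F (F ⊗[R] H) (F ⊗[R] H) n,
    y ∈ LinearMap.range ((genFil R H n).subtype.lTensor F) := by
  induction n with
  | zero =>
    intro y hy
    rw [show y = 0 from (Submodule.mem_bot F).1 hy]
    exact zero_mem _
  | succ n ih =>
    intro y hy
    obtain ⟨z, hz⟩ := mem_fixFil_succ.1 hy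
    refine (Module.Flat.lTensor_exact F
      (LinearMap.exact_subtype_ker_map ((genFil R H n).mkQ.rTensor H ∘ₗ devR R H)) y).1 ?_
    rw [LinearMap.lTensor_comp, LinearMap.comp_apply, ← regroup_devR]
    rw [show devR F (F ⊗[R] H) y = (fixFil F (F ⊗[R] H) (F ⊗[R] H) n).subtype.rTensor (F ⊗[R] H) z from hz.symm]
    clear hz
    induction z with
    | zero => simp
    | add p q hp hq => simp only [map_add, hp, hq, add_zero]
    | tmul p q =>
      obtain ⟨w, hw⟩ := ih p.1 p.2
      rw [LinearMap.rTensor_tmul, Submodule.subtype_apply, ← hw]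
      clear hw
      induction w with
      | zero => simp
      | add a b ha hb => simp only [map_add, TensorProduct.add_tmul, ha, hb, add_zero]
      | tmul c a =>
        induction q with
        | zero => simp
        | add u v hu hv => simp only [map_add, TensorProduct.tmul_add, hu, hv, add_zero]
        | tmul d b => simp [(Submodule.Quotient.mk_eq_zero _).2 a.2]

theorem mem_genFil_of_one_tmul (hinj : Function.Injective (algebraMap R F)) {n : ℕ}
    [Module.Flat R (H ⧸ genFil R H n)] {h : H} (hh : (1 : F) ⊗ₜ[R] h ∈ fixFil F (F ⊗[R] H) (F ⊗[R] H) n) :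
    h ∈ genFil R H n := by
  obtain ⟨w, hw⟩ := fixFil_le n _ hh
  have h0 : (1 : F) ⊗ₜ[R] (genFil R H n).mkQ h = (1 : F) ⊗ₜ[R] 0 := by
    rw [← LinearMap.lTensor_tmul, ← hw, ← LinearMap.lTensor_comp_apply,
      show (genFil R H n).mkQ ∘ₗ (genFil R H n).subtype = 0 from
        LinearMap.ext fun y => (Submodule.Quotient.mk_eq_zero _).2 y.2,
      LinearMap.lTensor_zero, LinearMap.zero_apply, TensorProduct.tmul_zero]
  refine (Submodule.Quotient.mk_eq_zero _).1 ?_
  have hi := Module.Flat.rTensor_preserves_injective_linearMap (M := H ⧸ genFil R H n) (Algebra.linearMap R F) hinj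
  apply (TensorProduct.lid R (H ⧸ genFil R H n)).symm.injective
  apply hi
  simpa using h0

omit [Module.Flat R F] in
/-- Unipotence transfers to the base change if the filtration exhausts. -/
theorem isUnipotent_baseChange {H : Type u} [CommRing H] [HopfAlgebra R H]
    (h : ∀ x : H, ∃ n, x ∈ genFil R H n) : IsUnipotent F (F ⊗[R] H) := by
  refine isUnipotent_of_exhaustive fun y => ?_
  induction y with
  | zero => exact ⟨0, zero_mem _⟩
  | add p q hp hq =>
    obtain ⟨m, hm⟩ := hp
    obtain ⟨n, hn⟩ := hq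
    exact ⟨max m n, add_mem (fixFil_mono (le_max_left _ _) hm) (fixFil_mono (le_max_right _ _) hn)⟩
  | tmul c x =>
    obtain ⟨n, hn⟩ := h x
    refine ⟨n, ?_⟩
    rw [show c ⊗ₜ[R] x = c • ((1 : F) ⊗ₜ[R] x) by rw [TensorProduct.smul_tmul', smul_eq_mul, mul_one]]
    exact Submodule.smul_mem _ _ (one_tmul_mem_fixFil n hn)

end Compare

theorem flat_quot_genFil {R : Type u} [CommRing R] [IsDomain R] [IsDedekindDomain R] {H : Type v} [CommRing H]
    [HopfAlgebra R H] [Module.Flat R H] : ∀ n, Module.Flat R (H ⧸ genFil R H n)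
  | 0 => Module.Flat.of_linearEquiv (Submodule.quotEquivOfEqBot _ rfl)
  | n + 1 => by
    have := flat_quot_genFil (R := R) (H := H) n
    let φ := (genFil R H n).mkQ.rTensor H ∘ₗ devR R H
    let ψ : (H ⧸ genFil R H (n + 1)) →ₗ[R] (H ⧸ genFil R H n) ⊗[R] H :=
      (genFil R H (n + 1)).liftQ φ fun x hx => hx
    have hψ : Function.Injective ψ := by
      rw [← LinearMap.ker_eq_bot, LinearMap.ker_eq_bot']
      intro z hz
      obtain ⟨y, rfl⟩ := Submodule.mkQ_surjective _ z
      exact (Submodule.Quotient.mk_eq_zero _).2 hz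
    have h1 : Module.IsTorsionFree R ((H ⧸ genFil R H n) ⊗[R] H) :=
      Submodule.isTorsionFree_iff_torsion_eq_bot.2 (IsDedekindDomain.flat_iff_torsion_eq_bot.1 inferInstance)
    have h2 : Module.IsTorsionFree R (H ⧸ genFil R H (n + 1)) := hψ.moduleIsTorsionFree _ (map_smul ψ)
    exact Module.Flat.instOfIsDedekindDomainOfIsTorsionFree

end Groth.Agent.Unip23
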