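import Groth.Agent.Lib.CoalgH23.Filtration
import Mathlib.RingTheory.FiniteType
import Mathlib.RingTheory.Polynomial.Pochhammer
import Mathlib.RingTheory.HopfAlgebra.Convolution
import Mathlib.Algebra.Polynomial.Roots
import Mathlib.GroupTheory.Nilpotent
import Mathlib.RingTheory.Jacobson.Ring
import Mathlib.RingTheory.Localization.Away.Basic
import Mathlib.FieldTheory.IsAlgClosed.AlgebraicClosure

/-!
# Points of unipotent groups with values in any algebra
-/

universe u v w

open TensorProduct HopfRep WithConv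
open scoped Groth.Agent.CoalgH23

noncomputable section

namespace Groth.Agent.Unip23

open Groth.Agent.CoalgH23

variable {k : Type u} [Field k] {A : Type v} [CommRing A] [HopfAlgebra k A]
variable {T : Type w} [CommRing T] [Algebra k T]

/-- A functional killing `1` lowers the fixed-point filtration of `A`. -/
theorem mul_kills {ψ δ : WithConv (A →ₗ[k] T)} (hδ : δ.ofConv 1 = 0) {i : ℕ}
    (hψ : ∀ y ∈ fixFil k A A i, ψ.ofConv y = 0) {v : A} (hv : v ∈ fixFil k A A (i + 1)) :
    (ψ * δ).ofConv v = 0 := by
  obtain ⟨z, hz⟩ := mem_fixFil_succ.1 hv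
  have h : CoalgebraStruct.comul (R := k) v = v ⊗ₜ[k] (1 : A) + (fixFil k A A i).subtype.rTensor A z :=
    eq_add_of_sub_eq' hz.symm
  rw [LinearMap.convMul_def]
  simp only [WithConv.ofConv_toConv, LinearMap.comp_apply, h, map_add, TensorProduct.map_tmul,
    LinearMap.mul'_apply, hδ, mul_zero, zero_add]
  clear hz h
  induction z with
  | zero => simp
  | add p q hp hq => simp only [map_add, hp, hq, add_zero]
  | tmul p q => simp [hψ p.1 p.2]

/-- The powers of a functional killing `1` die on the filtration. -/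
theorem pow_apply_eq_zero {δ : WithConv (A →ₗ[k] T)} (hδ : δ.ofConv 1 = 0) :
    ∀ {n : ℕ} {v : A}, v ∈ fixFil k A A n → ∀ m, n ≤ m → (δ ^ m).ofConv v = 0 := by
  have key : ∀ n, ∀ v ∈ fixFil k A A n, (δ ^ n).ofConv v = 0 := by
    intro n
    induction n with
    | zero =>
      intro v hv
      rw [show v = 0 from (Submodule.mem_bot k).1 hv, map_zero]
    | succ n ih => intro v hv; rw [pow_succ]; exact mul_kills hδ ih hv
  exact fun {n v} hv m hm => key m v (fixFil_mono hm hv)

/-- Every element of the coordinate ring of a unipotent group lies in the filtration. -/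
theorem exists_mem_fixFil (hU : IsUnipotent k A) (a : A) : ∃ n, a ∈ fixFil k A A n := by
  have := finite_span_singleton (k := k) (C := A) a
  refine ⟨_, le_fixFil_finrank hU (L := (Submodule.span (WithConv (A →ₗ[k] k)) {a}).restrictScalars k)
    (isSubcomod_restrictScalars _) ?_⟩
  exact Submodule.mem_span_singleton_self a

/-- A step of the filtration containing generators. -/
theorem exists_gen_fixFil [Algebra.FiniteType k A] (hU : IsUnipotent k A) :
    ∃ n, Algebra.adjoin k (fixFil k A A n : Set A) = ⊤ := by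
  classical
  obtain ⟨s, hs⟩ := Algebra.FiniteType.out (R := k) (A := A)
  choose f hf using exists_mem_fixFil hU
  refine ⟨s.sup f, top_le_iff.1 (hs.ge.trans (Algebra.adjoin_mono fun a ha => ?_))⟩
  exact fixFil_mono (Finset.le_sup ha) (hf a)

/-- A point as a functional in the convolution algebra. -/
def lin (g : WithConv (A →ₐ[k] T)) : WithConv (A →ₗ[k] T) := toConv g.ofConv.toLinearMap

theorem lin_apply (g : WithConv (A →ₐ[k] T)) (a : A) : (lin g).ofConv a = g.ofConv a := rfl

theorem lin_one : lin (1 : WithConv (A →ₐ[k] T)) = 1 := AlgHom.toLinearMap_convOne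

theorem lin_mul (g h : WithConv (A →ₐ[k] T)) : lin (g * h) = lin g * lin h := AlgHom.toLinearMap_convMul g h

theorem lin_pow (g : WithConv (A →ₐ[k] T)) (n : ℕ) : lin (g ^ n) = lin g ^ n := AlgHom.toLinearMap_convPow g n

theorem lin_injective : Function.Injective (lin : WithConv (A →ₐ[k] T) → _) := fun g h e =>
  ofConv_injective (AlgHom.ext fun a => LinearMap.congr_fun (congrArg WithConv.ofConv e) a)

/-- The deviation of a point from the unit. -/
def dev (g : WithConv (A →ₐ[k] T)) : WithConv (A →ₗ[k] T) := lin g - 1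

theorem dev_one_apply (g : WithConv (A →ₐ[k] T)) : (dev g).ofConv 1 = 0 := by
  simp [dev, lin, LinearMap.convOne_def, Algebra.linearMap_apply]

theorem lin_eq (g : WithConv (A →ₐ[k] T)) : lin g = dev g + 1 := (sub_add_cancel _ _).symm

section CharP

variable (p : ℕ) [Fact p.Prime] [CharP k p]

theorem pow_char_pow_apply (g : WithConv (A →ₐ[k] k)) {n : ℕ} {v : A} (hv : v ∈ fixFil k A A n) {r : ℕ}
    (hr : n ≤ p ^ r) : (g ^ p ^ r).ofConv v = (1 : WithConv (A →ₐ[k] k)).ofConv v := by
  haveI : Nontrivial (WithConv (A →ₗ[k] k)) := ⟨1, 0, fun e => one_ne_zero (α := k) (by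
    have := LinearMap.congr_fun (congrArg WithConv.ofConv e) (1 : A)
    simpa [LinearMap.convOne_def] using this)⟩
  haveI : CharP (WithConv (A →ₗ[k] k)) p := charP_of_injective_algebraMap' k p
  have h : lin (g ^ p ^ r) = dev g ^ p ^ r + 1 := by
    rw [lin_pow, lin_eq, add_pow_char_pow_of_commute _ _ (Commute.one_right _), one_pow]
  rw [← lin_apply, h, ← lin_apply, lin_one, WithConv.ofConv_add, LinearMap.add_apply,
    pow_apply_eq_zero (dev_one_apply g) hv _ hr, zero_add]

/-- Points of a unipotent group in characteristic `p` are killed by a fixed power of `p`. -/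
theorem exists_pow_char_pow_eq_one [Algebra.FiniteType k A] (hU : IsUnipotent k A) :
    ∃ r, ∀ g : WithConv (A →ₐ[k] k), g ^ p ^ r = 1 := by
  obtain ⟨n, hn⟩ := exists_gen_fixFil hU
  refine ⟨n, fun g => ofConv_injective (AlgHom.ext_of_adjoin_eq_top hn fun v hv => ?_)⟩
  exact pow_char_pow_apply p g hv (Nat.lt_pow_self (Fact.out : p.Prime).one_lt).le

end CharP

section CharZero

variable [IsDomain T] [CharZero T]

theorem poly_ext {P Q : Polynomial T} (h : ∀ m : ℕ, P.eval (m : T) = Q.eval (m : T)) : P = Q :=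
  Polynomial.eq_of_infinite_eval_eq P Q
    ((Set.infinite_range_of_injective (f := fun m : ℕ => (m : T)) Nat.cast_injective).mono
      (by rintro _ ⟨m, rfl⟩; exact h m))

end CharZero

section Exp

variable {F : Type w} [Field F] [Algebra k F] [CharZero F]

theorem exists_poly (hU : IsUnipotent k A) (g : WithConv (A →ₐ[k] F)) (a : A) :
    ∃ P : Polynomial F, ∀ m : ℕ, P.eval (m : F) = (g ^ m).ofConv a := by
  obtain ⟨N, hN⟩ := exists_mem_fixFil hU a
  refine ⟨∑ i ∈ Finset.range N, Polynomial.C ((dev g ^ i).ofConv a / (i.factorial : F)) * descPochhammer F i,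
    fun m => ?_⟩
  rw [← lin_apply, lin_pow, lin_eq, (Commute.one_right (dev g)).add_pow, Polynomial.eval_finsetSum,
    WithConv.ofConv_sum, LinearMap.sum_apply]
  have e : ∀ i, (Polynomial.C ((dev g ^ i).ofConv a / (i.factorial : F)) * descPochhammer F i).eval (m : F) =
      (m.choose i : F) * (dev g ^ i).ofConv a := by
    intro i
    rw [Polynomial.eval_mul, Polynomial.eval_C, descPochhammer_eval_eq_descFactorial,
      Nat.descFactorial_eq_factorial_mul_choose, Nat.cast_mul]
    field_simp [Nat.factorial_ne_zero]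
  simp only [e, one_pow, mul_one]
  have h1 : ∀ i, ((dev g ^ i * (m.choose i : WithConv (A →ₗ[k] F))).ofConv a) =
      (m.choose i : F) * (dev g ^ i).ofConv a := by
    intro i
    rw [← (Nat.cast_commute (m.choose i) (dev g ^ i)).eq, ← nsmul_eq_mul, WithConv.ofConv_smul,
      LinearMap.smul_apply, nsmul_eq_mul]
  simp only [h1]
  rcases le_or_gt N (m + 1) with hle | hlt
  · refine Finset.sum_subset (Finset.range_mono hle) fun i _ hi => ?_
    rw [pow_apply_eq_zero (dev_one_apply g) hN i (by simpa using hi), mul_zero]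
  · refine (Finset.sum_subset (Finset.range_mono hlt.le) fun i _ hi => ?_).symm
    rw [Nat.choose_eq_zero_of_lt (by simpa using hi), Nat.cast_zero, zero_mul]

/-- The one-parameter subgroup through a point, as a point with values in polynomials. -/
def oneParam (hU : IsUnipotent k A) (g : WithConv (A →ₐ[k] F)) : A →ₐ[k] Polynomial F where
  toFun a := (exists_poly hU g a).choose
  map_one' := poly_ext fun m => by rw [(exists_poly hU g 1).choose_spec, map_one, Polynomial.eval_one]
  map_mul' a b := poly_ext fun m => by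
    rw [(exists_poly hU g _).choose_spec, map_mul, Polynomial.eval_mul, (exists_poly hU g a).choose_spec,
      (exists_poly hU g b).choose_spec]
  map_zero' := poly_ext fun m => by rw [(exists_poly hU g 0).choose_spec, map_zero, Polynomial.eval_zero]
  map_add' a b := poly_ext fun m => by
    rw [(exists_poly hU g _).choose_spec, map_add, Polynomial.eval_add, (exists_poly hU g a).choose_spec,
      (exists_poly hU g b).choose_spec]
  commutes' c := poly_ext fun m => by
    rw [(exists_poly hU g _).choose_spec, AlgHom.commutes]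
    exact Polynomial.eval_C.symm

theorem oneParam_eval (hU : IsUnipotent k A) (g : WithConv (A →ₐ[k] F)) (a : A) (m : ℕ) :
    (oneParam hU g a).eval (m : F) = (g ^ m).ofConv a := (exists_poly hU g a).choose_spec m

/-- The value of the one-parameter subgroup at a scalar. -/
def expPt (hU : IsUnipotent k A) (g : WithConv (A →ₐ[k] F)) (t : F) : WithConv (A →ₐ[k] F) :=
  toConv (((Polynomial.aeval t : Polynomial F →ₐ[F] F).restrictScalars k).comp (oneParam hU g))

theorem expPt_apply (hU : IsUnipotent k A) (g : WithConv (A →ₐ[k] F)) (t : F) (a : A) :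
    (expPt hU g t).ofConv a = (oneParam hU g a).eval t := by
  simp [expPt]

theorem expPt_natCast (hU : IsUnipotent k A) (g : WithConv (A →ₐ[k] F)) (m : ℕ) :
    expPt hU g (m : F) = g ^ m :=
  ofConv_injective (AlgHom.ext fun a => by rw [expPt_apply, oneParam_eval])

theorem pow_expPt (hU : IsUnipotent k A) (g : WithConv (A →ₐ[k] F)) (e : ℕ) (t : F) :
    expPt hU g t ^ e = expPt hU g ((e : F) * t) := by
  have hev : ∀ (t : F) (x : WithConv (A →ₐ[k] Polynomial F)) (n : ℕ),
      toConv (((Polynomial.aeval t : Polynomial F →ₐ[F] F).restrictScalars k).comp (x ^ n).ofConv) =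
      toConv (((Polynomial.aeval t : Polynomial F →ₐ[F] F).restrictScalars k).comp x.ofConv) ^ n := by
    intro t x n
    induction n with
    | zero =>
      rw [pow_zero, pow_zero]
      exact ofConv_injective (AlgHom.ext fun a => AlgHom.commutes
        ((Polynomial.aeval t : Polynomial F →ₐ[F] F).restrictScalars k) (CoalgebraStruct.counit (R := k) a))
    | succ n ih => rw [pow_succ, pow_succ, AlgHom.comp_convMul_distrib, ← ih]
  have key : ∀ a, ((toConv (oneParam hU g)) ^ e).ofConv a =
      (oneParam hU g a).comp (Polynomial.C (e : F) * Polynomial.X) := by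
    intro a
    refine poly_ext fun m => ?_
    have h1 := AlgHom.congr_fun (congrArg WithConv.ofConv (hev (m : F) (toConv (oneParam hU g)) e)) a
    rw [ofConv_toConv, AlgHom.comp_apply, AlgHom.restrictScalars_apply, Polynomial.coe_aeval_eq_eval,
      ofConv_toConv, show toConv (((Polynomial.aeval (m : F) : Polynomial F →ₐ[F] F).restrictScalars k).comp
        (oneParam hU g)) = g ^ m from expPt_natCast hU g m] at h1
    rw [h1, Polynomial.eval_comp, Polynomial.eval_mul, Polynomial.eval_C, Polynomial.eval_X, ← Nat.cast_mul,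
      oneParam_eval, ← pow_mul, mul_comm]
  refine ofConv_injective (AlgHom.ext fun a => ?_)
  have h2 := AlgHom.congr_fun (congrArg WithConv.ofConv (hev t (toConv (oneParam hU g)) e)) a
  simp only [ofConv_toConv] at h2
  show ((toConv (((Polynomial.aeval t : Polynomial F →ₐ[F] F).restrictScalars k).comp (oneParam hU g))) ^ e).ofConv a = _
  rw [← h2, AlgHom.comp_apply, AlgHom.restrictScalars_apply, Polynomial.coe_aeval_eq_eval, key,
    Polynomial.eval_comp, Polynomial.eval_mul, Polynomial.eval_C, Polynomial.eval_X, expPt_apply]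

theorem pow_bijective (hU : IsUnipotent k A) {e : ℕ} (he : e ≠ 0) :
    Function.Bijective fun g : WithConv (A →ₐ[k] F) => g ^ e := by
  have he' : (e : F) ≠ 0 := Nat.cast_ne_zero.2 he
  have h1 : ∀ g : WithConv (A →ₐ[k] F), expPt hU g 1 = g := fun g => by
    simpa using expPt_natCast hU g 1
  refine ⟨fun g h hgh => ?_, fun g => ⟨expPt hU g (e : F)⁻¹, ?_⟩⟩
  · have hP : ∀ a, (oneParam hU g a).comp (Polynomial.C (e : F) * Polynomial.X) =
        (oneParam hU h a).comp (Polynomial.C (e : F) * Polynomial.X) := fun a => poly_ext fun m => by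
      simp only [Polynomial.eval_comp, Polynomial.eval_mul, Polynomial.eval_C, Polynomial.eval_X,
        ← Nat.cast_mul, oneParam_eval, pow_mul, show g ^ e = h ^ e from hgh]
    rw [← h1 g, ← h1 h]
    refine ofConv_injective (AlgHom.ext fun a => ?_)
    have := congrArg (Polynomial.eval (e : F)⁻¹) (hP a)
    simpa [expPt_apply, he'] using this
  · show expPt hU g (e : F)⁻¹ ^ e = g
    rw [pow_expPt, mul_inv_cancel₀ he', h1]

/-- A point of a unipotent group takes the same value as the unit on an idempotent. -/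
theorem apply_idempotent (hU : IsUnipotent k A) (g : WithConv (A →ₐ[k] F)) {e : A} (he : IsIdempotentElem e) :
    g.ofConv e = (1 : WithConv (A →ₐ[k] F)).ofConv e := by
  rw [← pow_zero g, ← pow_one g, ← oneParam_eval hU g e 1, ← pow_mul, one_mul, ← oneParam_eval hU g e 0]
  have h := he.map (oneParam hU g)
  rcases IsIdempotentElem.iff_eq_zero_or_one.1 h with h | h <;> rw [h] <;> simp

end Exp

section Nilpotent

theorem smul_sub_mem' (g : WithConv (A →ₐ[k] k)) {i : ℕ} {v : A} (hv : v ∈ fixFil k A A (i + 1)) :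
    lin g • v - v ∈ fixFil k A A i := by
  simpa [lin] using smul_sub_mem hv (lin g)

/-- The points lowering the filtration by `n + 1`. -/
def filGrp (n : ℕ) : Subgroup (WithConv (A →ₐ[k] k)) where
  carrier := {g | ∀ i, ∀ v ∈ fixFil k A A (i + (n + 1)), lin g • v - v ∈ fixFil k A A i}
  one_mem' i v _ := by rw [lin_one, one_smul, sub_self]; exact zero_mem _
  mul_mem' {g h} hg hh i v hv := by
    rw [lin_mul, mul_smul]
    have h1 : lin g • (lin h • v - v) - (lin h • v - v) ∈ fixFil k A A i := by
      refine sub_mem (isSubcomod_iff.1 (isSubcomod_fixFil i) _ _ (hh i v hv)) (hh i v hv)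
    have h2 := add_mem (add_mem h1 (hg i v hv)) (hh i v hv)
    convert h2 using 1
    rw [smul_sub]
    abel
  inv_mem' {g} hg i v hv := by
    have h : lin g⁻¹ * lin g = 1 := by rw [← lin_mul, inv_mul_cancel, lin_one]
    have h1 := neg_mem (isSubcomod_iff.1 (isSubcomod_fixFil i) (lin g⁻¹) _ (hg i v hv))
    rwa [smul_sub, ← mul_smul, h, one_smul, neg_sub] at h1

theorem mem_filGrp {n : ℕ} {g : WithConv (A →ₐ[k] k)} :
    g ∈ filGrp n ↔ ∀ i, ∀ v ∈ fixFil k A A (i + (n + 1)), lin g • v - v ∈ fixFil k A A i := Iff.rfl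

theorem filGrp_zero : filGrp 0 = (⊤ : Subgroup (WithConv (A →ₐ[k] k))) :=
  eq_top_iff.2 fun g _ => mem_filGrp.2 fun _ _ hv => smul_sub_mem' g hv

theorem comm_mem_filGrp {n : ℕ} {x : WithConv (A →ₐ[k] k)} (hx : x ∈ filGrp n) (y : WithConv (A →ₐ[k] k)) :
    x * y * x⁻¹ * y⁻¹ ∈ filGrp (n + 1) := by
  intro i v hv
  set w := lin x⁻¹ • lin y⁻¹ • v with hw
  have hwm : w ∈ fixFil k A A (i + (n + 1 + 1)) :=
    isSubcomod_iff.1 (isSubcomod_fixFil _) _ _ (isSubcomod_iff.1 (isSubcomod_fixFil _) _ _ hv)
  have hv' : v = lin y • lin x • w := by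
    rw [hw, ← mul_smul (lin x), ← lin_mul, mul_inv_cancel, lin_one, one_smul, ← mul_smul, ← lin_mul,
      mul_inv_cancel, lin_one, one_smul]
  rw [lin_mul, lin_mul, lin_mul, mul_smul, mul_smul, mul_smul, ← hw]
  nth_rewrite 1 [hv']
  have h1 : lin x • (lin y • w - w) - (lin y • w - w) ∈ fixFil k A A i :=
    hx i _ (smul_sub_mem' y (by rwa [show i + (n + 1) + 1 = i + (n + 1 + 1) by omega]))
  have h2 : lin y • (lin x • w - w) - (lin x • w - w) ∈ fixFil k A A i :=
    smul_sub_mem' y (hx (i + 1) _ (by rwa [show i + 1 + (n + 1) = i + (n + 1 + 1) by omega]))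
  convert sub_mem h1 h2 using 1
  rw [smul_sub, smul_sub]
  abel

theorem filGrp_eq_bot {n : ℕ} (hn : Algebra.adjoin k (fixFil k A A n : Set A) = ⊤) :
    filGrp n = (⊥ : Subgroup (WithConv (A →ₐ[k] k))) := by
  refine eq_bot_iff.2 fun g hg => ?_
  rw [Subgroup.mem_bot]
  refine ofConv_injective (AlgHom.ext_of_adjoin_eq_top hn fun v hv => ?_)
  have h := mem_filGrp.1 hg 0 v (fixFil_mono (by omega) hv)
  rw [show fixFil k A A 0 = ⊥ from rfl, Submodule.mem_bot, sub_eq_zero] at h
  have h' := congrArg (CoalgebraStruct.counit (R := k)) h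
  rw [smul_def] at h'
  show g.ofConv v = algebraMap k k (CoalgebraStruct.counit v)
  rw [← h']
  have e := convMul_apply_slice (1 : WithConv (A →ₗ[k] k)) (lin g) v
  rw [one_mul, lin_apply] at e
  have e' : g.ofConv v = CoalgebraStruct.counit (slice (lin g).ofConv (CoalgebraStruct.comul (R := k) v)) := by
    simpa [LinearMap.convOne_def] using e
  exact e'

theorem isNilpotent_points [Algebra.FiniteType k A] (hU : IsUnipotent k A) :
    Group.IsNilpotent (WithConv (A →ₐ[k] k)) := by
  obtain ⟨n, hn⟩ := exists_gen_fixFil hU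
  exact (Subgroup.nilpotent_iff_finite_descending_central_series _).2
    ⟨n, fun i => filGrp i, ⟨filGrp_zero, fun x m hx y => comm_mem_filGrp hx y⟩, filGrp_eq_bot hn⟩

end Nilpotent

theorem exists_point_ne_zero {k : Type u} [Field k] {B : Type v} [CommRing B] [Algebra k B]
    [Algebra.FiniteType k B] {F : Type w} [Field F] [Algebra k F] [IsAlgClosed F] {x : B} (hx : ¬ IsNilpotent x) :
    ∃ g : B →ₐ[k] F, g x ≠ 0 := by
  let L := Localization.Away x
  haveI : Nontrivial L := not_subsingleton_iff_nontrivial.1 fun h =>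
    hx ((IsLocalization.subsingleton_iff (M := Submonoid.powers x) (S := L)).1 h)
  haveI : Algebra.FiniteType k L := Algebra.FiniteType.trans (S := B) inferInstance
    (@Algebra.FiniteType.of_finitePresentation B L _ _ _ (IsLocalization.Away.finitePresentation x))
  obtain ⟨m, hm⟩ := Ideal.exists_maximal L
  letI : Field (L ⧸ m) := Ideal.Quotient.field m
  haveI : Algebra.FiniteType k (L ⧸ m) :=
    Algebra.FiniteType.of_surjective (Ideal.Quotient.mkₐ k m) (Ideal.Quotient.mkₐ_surjective k m)
  haveI : Module.Finite k (L ⧸ m) := finite_of_finite_type_of_isJacobsonRing k (L ⧸ m)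
  let emb : L ⧸ m →ₐ[k] F := IsAlgClosed.lift
  refine ⟨(emb.comp (Ideal.Quotient.mkₐ k m)).comp (IsScalarTower.toAlgHom k B L), ?_⟩
  exact (((IsLocalization.Away.algebraMap_isUnit x).map (Ideal.Quotient.mkₐ k m)).map emb).ne_zero

end Groth.Agent.Unip23
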