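import Groth.Agent.Lib.Unip23.Primitive
import Mathlib.Algebra.MvPolynomial.PDeriv
import Mathlib.Algebra.Polynomial.Taylor
import Mathlib.RingTheory.AlgebraicIndependent.Basic

/-!
# Commutative unipotent groups in characteristic zero
-/

universe u v w

open TensorProduct HopfRep WithConv
open scoped Groth.Agent.CoalgH23

noncomputable section

namespace Groth.Agent.Unip23

open Groth.Agent.CoalgH23

variable {k : Type u} [Field k] [CharZero k]

theorem poly_ext' {T : Type w} [CommRing T] [Algebra k T] {P Q : Polynomial T}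
    (h : ∀ m : ℕ, P.eval (m : T) = Q.eval (m : T)) : P = Q := by
  classical
  rw [← sub_eq_zero]
  refine Polynomial.ext fun j => ?_
  rw [Polynomial.coeff_zero]
  refine (Module.forall_dual_apply_eq_zero_iff k _).1 fun φ => ?_
  let R := P - Q
  have hq : (∑ i ∈ R.support, Polynomial.monomial i (φ (R.coeff i))) = (0 : Polynomial k) := by
    refine poly_ext fun m => ?_
    rw [Polynomial.eval_finsetSum, Polynomial.eval_zero]
    have h0 : R.eval (m : T) = 0 := by rw [Polynomial.eval_sub, h m, sub_self]
    rw [← map_zero φ, ← h0, Polynomial.eval_eq_sum, Polynomial.sum_def, map_sum]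
    refine Finset.sum_congr rfl fun i _ => ?_
    rw [Polynomial.eval_monomial, show R.coeff i * (m : T) ^ i = ((m : k) ^ i) • R.coeff i by
      rw [Algebra.smul_def, map_pow, map_natCast, mul_comm], map_smul, smul_eq_mul, mul_comm]
  have h1 := congrArg (Polynomial.coeff · j) hq
  simp only [Polynomial.finsetSum_coeff, Polynomial.coeff_monomial, Polynomial.coeff_zero, Finset.sum_ite_eq',
    Polynomial.mem_support_iff, ne_eq, ite_not] at h1
  split_ifs at h1 with e
  · rw [e, map_zero]
  · exact h1

variable {A : Type v} [CommRing A] [HopfAlgebra k A]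

theorem exists_poly' {T : Type w} [CommRing T] [Algebra k T] (hU : IsUnipotent k A)
    (g : WithConv (A →ₐ[k] T)) (a : A) :
    ∃ P : Polynomial T, ∀ m : ℕ, P.eval (m : T) = (g ^ m).ofConv a := by
  obtain ⟨N, hN⟩ := exists_mem_fixFil hU a
  refine ⟨∑ i ∈ Finset.range N, Polynomial.C ((dev g ^ i).ofConv a) *
    (Polynomial.C ((i.factorial : k)⁻¹) * descPochhammer k i).map (algebraMap k T), fun m => ?_⟩
  rw [← lin_apply, lin_pow, lin_eq, (Commute.one_right (dev g)).add_pow, Polynomial.eval_finsetSum,
    WithConv.ofConv_sum, LinearMap.sum_apply]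
  have e : ∀ i, (Polynomial.C ((dev g ^ i).ofConv a) *
      (Polynomial.C ((i.factorial : k)⁻¹) * descPochhammer k i).map (algebraMap k T)).eval (m : T) =
      (m.choose i : T) * (dev g ^ i).ofConv a := by
    intro i
    rw [Polynomial.eval_mul, Polynomial.eval_C, ← map_natCast (algebraMap k T) m, Polynomial.eval_map_apply,
      Polynomial.eval_mul, Polynomial.eval_C, descPochhammer_eval_eq_descFactorial,
      Nat.descFactorial_eq_factorial_mul_choose, Nat.cast_mul, ← mul_assoc,
      inv_mul_cancel₀ (Nat.cast_ne_zero.2 (Nat.factorial_ne_zero i)), one_mul, map_natCast, mul_comm]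
  simp only [e, one_pow, mul_one]
  have h1 : ∀ i, ((dev g ^ i * (m.choose i : WithConv (A →ₗ[k] T))).ofConv a) =
      (m.choose i : T) * (dev g ^ i).ofConv a := by
    intro i
    rw [← (Nat.cast_commute (m.choose i) (dev g ^ i)).eq, ← nsmul_eq_mul, WithConv.ofConv_smul,
      LinearMap.smul_apply, nsmul_eq_mul]
  simp only [h1]
  rcases le_or_gt N (m + 1) with hle | hlt
  · refine Finset.sum_subset (Finset.range_mono hle) fun i _ hi => ?_
    rw [pow_apply_eq_zero (dev_one_apply g) hN i (by simpa using hi), mul_zero]
  · refine (Finset.sum_subset (Finset.range_mono hlt.le) fun i _ hi => ?_).symm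
    rw [Nat.choose_eq_zero_of_lt (by simpa using hi), Nat.cast_zero, zero_mul]

variable (hU : IsUnipotent k A)

/-- The powers of the identity, as a point with polynomial values. -/
def expAlg : A →ₐ[k] Polynomial A where
  toFun a := (exists_poly' hU (toConv (AlgHom.id k A)) a).choose
  map_one' := poly_ext' (k := k) fun m => by rw [(exists_poly' hU _ 1).choose_spec, map_one, Polynomial.eval_one]
  map_mul' a b := poly_ext' (k := k) fun m => by
    rw [(exists_poly' hU _ _).choose_spec, map_mul, Polynomial.eval_mul, (exists_poly' hU _ a).choose_spec,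
      (exists_poly' hU _ b).choose_spec]
  map_zero' := poly_ext' (k := k) fun m => by rw [(exists_poly' hU _ 0).choose_spec, map_zero, Polynomial.eval_zero]
  map_add' a b := poly_ext' (k := k) fun m => by
    rw [(exists_poly' hU _ _).choose_spec, map_add, Polynomial.eval_add, (exists_poly' hU _ a).choose_spec,
      (exists_poly' hU _ b).choose_spec]
  commutes' c := poly_ext' (k := k) fun m => by
    rw [(exists_poly' hU _ _).choose_spec, AlgHom.commutes]
    exact Polynomial.eval_C.symm

theorem expAlg_eval (a : A) (m : ℕ) :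
    (expAlg hU a).eval (m : A) = (toConv (AlgHom.id k A) ^ m).ofConv a := (exists_poly' hU _ a).choose_spec m

/-- The logarithm of the identity. -/
def logId : A →ₗ[k] A :=
  ((Polynomial.lcoeff A 1).restrictScalars k) ∘ₗ (expAlg hU).toLinearMap

theorem logId_apply (a : A) : logId hU a = (expAlg hU a).coeff 1 := rfl

theorem expAlg_coeff_zero (a : A) : (expAlg hU a).coeff 0 = algebraMap k A (CoalgebraStruct.counit a) := by
  rw [Polynomial.coeff_zero_eq_eval_zero, ← Nat.cast_zero, expAlg_eval, pow_zero]
  rfl

theorem comp_pow' {S T : Type*} [CommRing S] [Algebra k S] [CommRing T] [Algebra k T] (h : S →ₐ[k] T)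
    (g : WithConv (A →ₐ[k] S)) (n : ℕ) : toConv (h.comp (g ^ n).ofConv) = toConv (h.comp g.ofConv) ^ n := by
  induction n with
  | zero => rw [pow_zero, pow_zero]; exact ofConv_injective (AlgHom.ext fun a => h.commutes _)
  | succ n ih => rw [pow_succ, pow_succ, AlgHom.comp_convMul_distrib, ← ih]

theorem logId_mul (a b : A) : logId hU (a * b) =
    algebraMap k A (CoalgebraStruct.counit a) * logId hU b + logId hU a * algebraMap k A (CoalgebraStruct.counit b) := by
  rw [logId_apply, map_mul, Polynomial.coeff_mul, show Finset.HasAntidiagonal.antidiagonal 1 = ({(0, 1), (1, 0)} : Finset (ℕ × ℕ)) from rfl,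
    Finset.sum_pair (by simp), expAlg_coeff_zero, expAlg_coeff_zero]
  rfl

theorem logId_of_isPrim {x : A} (hx : IsPrim (k := k) x) : logId hU x = x := by
  have hid : ∀ m : ℕ, (toConv (AlgHom.id k A) ^ m).ofConv x = (m : A) * x := by
    intro m
    induction m with
    | zero =>
      rw [pow_zero, Nat.cast_zero, zero_mul]
      show algebraMap k A (CoalgebraStruct.counit x) = 0
      rw [counit_of_isPrim hx, map_zero]
    | succ m ih =>
      rw [pow_succ]
      show (toConv (AlgHom.id k A) ^ m * toConv (AlgHom.id k A)) x = _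
      rw [AlgHom.convMul_apply, hx, map_add, Algebra.TensorProduct.lift_tmul, Algebra.TensorProduct.lift_tmul, ih,
        map_one, map_one]
      simp [add_mul]
  have h : expAlg hU x = Polynomial.C x * Polynomial.X := poly_ext' (k := k) fun m => by
    rw [expAlg_eval, hid, Polynomial.eval_mul, Polynomial.eval_C, Polynomial.eval_X, mul_comm]
  rw [logId_apply, h]
  simp

theorem isPrim_logId [Coalgebra.IsCocomm k A] (a : A) : IsPrim (k := k) (logId hU a) := by
  let Δ : A →ₐ[k] A ⊗[k] A := Bialgebra.comulAlgHom k A
  let L : A →ₐ[k] A ⊗[k] A := Algebra.TensorProduct.includeLeft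
  let R : A →ₐ[k] A ⊗[k] A := Algebra.TensorProduct.includeRight
  let PL : A →ₐ[k] Polynomial (A ⊗[k] A) := (Polynomial.mapAlgHom L).comp (expAlg hU)
  let PR : A →ₐ[k] Polynomial (A ⊗[k] A) := (Polynomial.mapAlgHom R).comp (expAlg hU)
  let M : A ⊗[k] A →ₐ[k] Polynomial (A ⊗[k] A) := Algebra.TensorProduct.lift PL PR fun _ _ => Commute.all _ _
  have hev : ∀ (f : A →ₐ[k] A ⊗[k] A) (b : A) (m : ℕ), ((expAlg hU b).map (f : A →+* A ⊗[k] A)).eval (m : A ⊗[k] A) =
      f ((toConv (AlgHom.id k A) ^ m).ofConv b) := by
    intro f b m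
    rw [← map_natCast (f : A →+* A ⊗[k] A) m, Polynomial.eval_map_apply, expAlg_eval]
    rfl
  have hLR : toConv Δ = toConv L * toConv R := by
    refine ofConv_injective (AlgHom.ext fun b => ?_)
    show CoalgebraStruct.comul (R := k) b = (toConv L * toConv R) b
    rw [AlgHom.convMul_apply]
    induction CoalgebraStruct.comul (R := k) b with
    | zero => simp
    | add p q hp hq => simp only [map_add, ← hp, ← hq]
    | tmul p q => simp [L, R]
  have key : (expAlg hU a).map (Δ : A →+* A ⊗[k] A) = M (CoalgebraStruct.comul (R := k) a) := by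
    refine poly_ext' (k := k) fun m => ?_
    rw [hev]
    have h1 : Δ.comp (toConv (AlgHom.id k A) ^ m).ofConv =
        ((toConv (L.comp (toConv (AlgHom.id k A) ^ m).ofConv)) *
          (toConv (R.comp (toConv (AlgHom.id k A) ^ m).ofConv))).ofConv := by
      refine congrArg WithConv.ofConv (?_ : toConv (Δ.comp (toConv (AlgHom.id k A) ^ m).ofConv) = _)
      rw [comp_pow', comp_pow', comp_pow', ← mul_pow]
      exact congrArg (· ^ m) hLR
    refine (AlgHom.congr_fun h1 a).trans ?_
    show (toConv (L.comp (toConv (AlgHom.id k A) ^ m).ofConv) * toConv (R.comp (toConv (AlgHom.id k A) ^ m).ofConv) :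
      WithConv (A →ₐ[k] A ⊗[k] A)) a = _
    rw [AlgHom.convMul_apply]
    induction CoalgebraStruct.comul (R := k) a with
    | zero => simp
    | add p q hp hq => simp only [map_add, Polynomial.eval_add, hp, hq]
    | tmul p q =>
      simp only [M, PL, PR, Algebra.TensorProduct.lift_tmul, Polynomial.eval_mul, AlgHom.comp_apply, ofConv_toConv,
        Polynomial.coe_mapAlgHom]
      rw [hev L, hev R]
  have h2 := congrArg (Polynomial.coeff · 1) key
  simp only [Polynomial.coeff_map] at h2
  show CoalgebraStruct.comul (R := k) (logId hU a) = _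
  refine h2.trans ?_
  have h3 : ∀ z : A ⊗[k] A, (M z).coeff 1 =
      logId hU (slice (CoalgebraStruct.counit (R := k)) z) ⊗ₜ[k] (1 : A) +
        (1 : A) ⊗ₜ[k] logId hU (lslice (CoalgebraStruct.counit (R := k)) z) := by
    intro z
    induction z with
    | zero => simp
    | add p q hp hq => simp only [map_add, Polynomial.coeff_add, hp, hq, TensorProduct.add_tmul, TensorProduct.tmul_add]; abel
    | tmul p q =>
      simp only [M, PL, PR, Algebra.TensorProduct.lift_tmul, AlgHom.comp_apply, Polynomial.coe_mapAlgHom]
      rw [Polynomial.coeff_mul, show Finset.HasAntidiagonal.antidiagonal 1 = ({(0, 1), (1, 0)} : Finset (ℕ × ℕ)) from rfl, Finset.sum_pair (by simp),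
        Polynomial.coeff_map, Polynomial.coeff_map, Polynomial.coeff_map, Polynomial.coeff_map, expAlg_coeff_zero,
        expAlg_coeff_zero, slice_tmul', lslice_tmul, map_smul, map_smul, add_comm]
      simp [L, R, logId_apply, Algebra.algebraMap_eq_smul_one, TensorProduct.smul_tmul', TensorProduct.tmul_smul]
  rw [h3, lslice_counit, show slice (CoalgebraStruct.counit (R := k)) (CoalgebraStruct.comul (R := k) a) = a from
    LinearMap.congr_fun (actL_counit (k := k) (C := A) (V := A)) a]

theorem mem_adjoin_logId (a : A) : a ∈ Algebra.adjoin k (Set.range (logId hU)) := by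
  let B := Algebra.adjoin k (Set.range (logId hU))
  let Q : A ⊗[k] A →ₗ[k] Polynomial A := LinearMap.mul' k (Polynomial A) ∘ₗ
    TensorProduct.map ((Algebra.linearMap A (Polynomial A)).restrictScalars k ∘ₗ logId hU) (expAlg hU).toLinearMap
  have hQ : ∀ b, Polynomial.derivative (expAlg hU b) = Q (CoalgebraStruct.comul (R := k) b) := by
    intro b
    refine poly_ext' (k := k) fun m => ?_
    let g := toConv (AlgHom.id k A)
    let S : A ⊗[k] A →ₐ[k] Polynomial A := Algebra.TensorProduct.lift (expAlg hU)
      (((Algebra.ofId A (Polynomial A)).restrictScalars k).comp (g ^ m).ofConv) fun _ _ => Commute.all _ _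
    have h1 : Polynomial.taylor (m : A) (expAlg hU b) = S (CoalgebraStruct.comul (R := k) b) := by
      refine poly_ext' (k := k) fun s => ?_
      rw [Polynomial.taylor_eval, ← Nat.cast_add, expAlg_eval, pow_add]
      show (g ^ s * g ^ m) b = _
      rw [AlgHom.convMul_apply]
      induction CoalgebraStruct.comul (R := k) b with
      | zero => simp
      | add p q hp hq => simp only [map_add, Polynomial.eval_add, hp, hq]
      | tmul p q => simp [S, g, expAlg_eval]
    rw [← Polynomial.taylor_coeff_one, h1]
    induction CoalgebraStruct.comul (R := k) b with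
    | zero => simp
    | add p q hp hq => simp only [map_add, Polynomial.eval_add, Polynomial.coeff_add, hp, hq]
    | tmul p q =>
      simp only [S, Q, Algebra.TensorProduct.lift_tmul, LinearMap.comp_apply, TensorProduct.map_tmul,
        LinearMap.mul'_apply, Polynomial.eval_mul, AlgHom.comp_apply]
      simp [g, expAlg_eval, logId_apply]
  have key : ∀ j b, (expAlg hU b).coeff j ∈ B := by
    intro j
    induction j with
    | zero => intro b; rw [expAlg_coeff_zero]; exact Subalgebra.algebraMap_mem B _
    | succ j ih =>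
      intro b
      have h := congrArg (Polynomial.coeff · j) (hQ b)
      simp only [Polynomial.coeff_derivative] at h
      have hz : ∀ z : A ⊗[k] A, (Q z).coeff j ∈ B := by
        intro z
        induction z with
        | zero => simp
        | add p q hp hq => rw [map_add, Polynomial.coeff_add]; exact add_mem hp hq
        | tmul p q =>
          show (Polynomial.C (logId hU p) * expAlg hU q).coeff j ∈ B
          rw [Polynomial.coeff_C_mul]
          exact mul_mem (Algebra.subset_adjoin ⟨p, rfl⟩) (ih q)
      have h' := B.smul_mem (hz (CoalgebraStruct.comul (R := k) b)) ((j + 1 : ℕ) : k)⁻¹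
      rw [← h, show (expAlg hU b).coeff (j + 1) * ((j : A) + 1) = ((j + 1 : ℕ) : k) • (expAlg hU b).coeff (j + 1) by
        rw [Algebra.smul_def, map_natCast, Nat.cast_succ, mul_comm], smul_smul,
        inv_mul_cancel₀ (Nat.cast_ne_zero.2 (Nat.succ_ne_zero j)), one_smul] at h'
      exact h'
  have h1 := expAlg_eval hU a 1
  rw [pow_one, Nat.cast_one] at h1
  rw [show a = (expAlg hU a).eval 1 from h1.symm, Polynomial.eval_eq_sum, Polynomial.sum_def]
  exact Subalgebra.sum_mem _ fun i _ => by rw [one_pow, mul_one]; exact key i a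

include hU in
theorem exists_primitive_generators [Algebra.FiniteType k A] [Coalgebra.IsCocomm k A] :
    ∃ (n : ℕ) (x : Fin n → A), AlgebraicIndependent k x ∧ Algebra.adjoin k (Set.range x) = ⊤ ∧
      ∀ i, IsPrim (k := k) (x i) := by
  classical
  obtain ⟨s, hs⟩ := Algebra.FiniteType.out (R := k) (A := A)
  have hfin : ∀ a : A, ∃ t : Finset A, (∀ y ∈ t, IsPrim (k := k) y) ∧ a ∈ Algebra.adjoin k (t : Set A) := by
    intro a
    refine Algebra.adjoin_induction ?_ ?_ ?_ ?_ (mem_adjoin_logId hU a)
    · rintro _ ⟨b, rfl⟩
      exact ⟨{logId hU b}, by simp [isPrim_logId hU b], Algebra.subset_adjoin (by simp)⟩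
    · exact fun r => ⟨∅, by simp, Subalgebra.algebraMap_mem _ r⟩
    · rintro x y _ _ ⟨t, ht, hx⟩ ⟨t', ht', hy⟩
      exact ⟨t ∪ t', fun z hz => (Finset.mem_union.1 hz).elim (ht z) (ht' z),
        add_mem (Algebra.adjoin_mono (Finset.coe_subset.2 Finset.subset_union_left) hx)
          (Algebra.adjoin_mono (Finset.coe_subset.2 Finset.subset_union_right) hy)⟩
    · rintro x y _ _ ⟨t, ht, hx⟩ ⟨t', ht', hy⟩
      exact ⟨t ∪ t', fun z hz => (Finset.mem_union.1 hz).elim (ht z) (ht' z),
        mul_mem (Algebra.adjoin_mono (Finset.coe_subset.2 Finset.subset_union_left) hx)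
          (Algebra.adjoin_mono (Finset.coe_subset.2 Finset.subset_union_right) hy)⟩
  choose t ht hat using hfin
  let U : Finset A := s.biUnion t
  let W : Submodule k A := Submodule.span k (U : Set A)
  have hW : ∀ y ∈ W, IsPrim (k := k) y := by
    intro y hy
    induction hy using Submodule.span_induction with
    | mem y hy => obtain ⟨a, -, hy⟩ := Finset.mem_biUnion.1 (Finset.mem_coe.1 hy); exact ht a y hy
    | zero => simp [IsPrim]
    | add p q _ _ hp hq =>
      show CoalgebraStruct.comul (R := k) (p + q) = _
      rw [map_add, hp, hq, TensorProduct.add_tmul, TensorProduct.tmul_add]; abel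
    | smul c p _ hp =>
      show CoalgebraStruct.comul (R := k) (c • p) = _
      rw [map_smul, hp, smul_add, TensorProduct.smul_tmul', TensorProduct.tmul_smul]
  haveI : FiniteDimensional k W := FiniteDimensional.span_finset k U
  let b := Module.finBasis k W
  let x : Fin (Module.finrank k W) → A := fun i => (b i : A)
  have hgen : Algebra.adjoin k (Set.range x) = ⊤ := by
    refine top_le_iff.1 (hs.ge.trans (Algebra.adjoin_le fun a ha => ?_))
    refine (Algebra.adjoin_le fun y hy => ?_ : Algebra.adjoin k (t a : Set A) ≤ _) (hat a)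
    have hyW : y ∈ W := Submodule.subset_span (Finset.mem_coe.2 (Finset.mem_biUnion.2 ⟨a, ha, hy⟩))
    have hy' : y ∈ Submodule.span k (Set.range x) := by
      rw [show y = ((∑ i, b.repr ⟨y, hyW⟩ i • b i : W) : A) by rw [b.sum_repr], Submodule.coe_sum]
      exact Submodule.sum_mem _ fun i _ => Submodule.smul_mem _ _ (Submodule.subset_span ⟨i, rfl⟩)
    exact Algebra.span_le_adjoin k _ hy'
  refine ⟨_, x, ?_, hgen, fun i => hW _ (b i).2⟩
  obtain ⟨p, hp⟩ := W.subtype.exists_leftInverse_of_injective W.ker_subtype
  let lam : Fin (Module.finrank k W) → A →ₗ[k] k := fun i => b.coord i ∘ₗ p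
  let χ : Fin (Module.finrank k W) → A →ₗ[k] k := fun i => lam i ∘ₗ logId hU
  have hχx : ∀ i j, χ i (x j) = if j = i then 1 else 0 := fun i j => by
    show lam i (logId hU (x j)) = _
    rw [logId_of_isPrim hU (hW _ (b j).2)]
    show b.coord i ((p ∘ₗ W.subtype) (b j)) = _
    rw [hp, LinearMap.id_apply, Module.Basis.coord_apply, Module.Basis.repr_self,
      Finsupp.single_apply]
  have hχmul : ∀ i a c, χ i (a * c) = CoalgebraStruct.counit (R := k) a * χ i c +
      χ i a * CoalgebraStruct.counit (R := k) c := fun i a c => by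
    show lam i (logId hU (a * c)) = _
    rw [logId_mul, map_add, ← Algebra.smul_def, mul_comm (logId hU a), ← Algebra.smul_def, map_smul, map_smul]
    simp [χ, mul_comm]
  let D : Fin (Module.finrank k W) → A →ₗ[k] A := fun i => slice (χ i) ∘ₗ CoalgebraStruct.comul
  have hD : ∀ i a c, D i (a * c) = a * D i c + D i a * c := by
    intro i a c
    have h : ∀ z z' : A ⊗[k] A, slice (χ i) (z * z') = slice (CoalgebraStruct.counit (R := k)) z * slice (χ i) z' +
        slice (χ i) z * slice (CoalgebraStruct.counit (R := k)) z' := by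
      intro z z'
      induction z with
      | zero => simp
      | add p q hp hq => simp only [add_mul, map_add, hp, hq]; abel
      | tmul p q =>
        induction z' with
        | zero => simp
        | add r r' hr hr' => simp only [mul_add, map_add, hr, hr']; abel
        | tmul r r' =>
          rw [Algebra.TensorProduct.tmul_mul_tmul, slice_tmul', slice_tmul', slice_tmul', slice_tmul', slice_tmul',
            hχmul, add_smul, smul_mul_smul_comm, smul_mul_smul_comm]
    have hc : ∀ y : A, slice (CoalgebraStruct.counit (R := k)) (CoalgebraStruct.comul (R := k) y) = y :=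
      LinearMap.congr_fun (actL_counit (k := k) (C := A) (V := A))
    show slice (χ i) (CoalgebraStruct.comul (R := k) (a * c)) = _
    rw [Bialgebra.comul_mul, h, hc, hc]
    rfl
  have hχ1 : ∀ i, χ i 1 = 0 := fun i => by
    have := hχmul i 1 1
    rw [one_mul, Bialgebra.counit_one, one_mul, mul_one] at this
    simpa using this
  have hDx : ∀ i j, D i (x j) = if j = i then 1 else 0 := fun i j => by
    show slice (χ i) (CoalgebraStruct.comul (R := k) (x j)) = _
    rw [hW _ (b j).2, map_add, slice_tmul', slice_tmul', hχ1, zero_smul, zero_add, hχx]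
    split_ifs <;> simp
  have hDaeval : ∀ i (q : MvPolynomial (Fin (Module.finrank k W)) k),
      D i (MvPolynomial.aeval x q) = MvPolynomial.aeval x (MvPolynomial.pderiv i q) := by
    intro i q
    induction q using MvPolynomial.induction_on with
    | C c =>
      rw [MvPolynomial.pderiv_C, map_zero, MvPolynomial.aeval_C, Algebra.algebraMap_eq_smul_one, map_smul]
      show c • slice (χ i) (CoalgebraStruct.comul (R := k) 1) = 0
      rw [Bialgebra.comul_one, Algebra.TensorProduct.one_def, slice_tmul', hχ1, zero_smul, smul_zero]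
    | add p q hp hq => simp only [map_add, hp, hq]
    | mul_X p j hp =>
      rw [map_mul, hD, hp, MvPolynomial.aeval_X, hDx, MvPolynomial.pderiv_mul, map_add, map_mul, map_mul,
        MvPolynomial.aeval_X, MvPolynomial.pderiv_X, Pi.single_apply, add_comm]
      split_ifs <;> simp
  rw [algebraicIndependent_iff]
  suffices h : ∀ (N : ℕ) (q : MvPolynomial (Fin (Module.finrank k W)) k), (∀ m, N ≤ Finsupp.degree m → q.coeff m = 0) →
      MvPolynomial.aeval x q = 0 → q = 0 by
    intro q hq
    refine h (q.support.sup Finsupp.degree + 1) q (fun m hm => ?_) hq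
    by_contra hne
    have := Finset.le_sup (f := Finsupp.degree) (MvPolynomial.mem_support_iff.2 hne)
    omega
  intro N
  induction N with
  | zero => exact fun q hq _ => MvPolynomial.ext _ _ fun m => by rw [hq m (Nat.zero_le _), MvPolynomial.coeff_zero]
  | succ N ih =>
    intro q hq h0
    have hd : ∀ i, MvPolynomial.pderiv i q = 0 := fun i => ih _ (fun m hm => by
      rw [MvPolynomial.coeff_pderiv, hq _ (by simp; omega)]
      simp) (by rw [← hDaeval, h0, map_zero])
    have hconst : ∀ m, m ≠ 0 → q.coeff m = 0 := by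
      intro m hm
      obtain ⟨i, hi⟩ := Finsupp.support_nonempty_iff.2 hm
      have hle : Finsupp.single i 1 ≤ m := Finsupp.single_le_iff.2 (Nat.one_le_iff_ne_zero.2 (Finsupp.mem_support_iff.1 hi))
      have h1 := congrArg (MvPolynomial.coeff (m - Finsupp.single i 1)) (hd i)
      rw [MvPolynomial.coeff_pderiv, MvPolynomial.coeff_zero, tsub_add_cancel_of_le hle] at h1
      exact (mul_eq_zero.1 h1).resolve_right (Nat.cast_add_one_ne_zero _)
    have hC : q = MvPolynomial.C (q.coeff 0) := MvPolynomial.ext _ _ fun m => by
      rw [MvPolynomial.coeff_C]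
      split_ifs with e
      · rw [← e]
      · exact hconst m (Ne.symm e)
    rw [hC, MvPolynomial.aeval_C] at h0
    haveI : Nontrivial A := ⟨⟨1, 0, fun e => one_ne_zero (α := k) (by
      simpa using congrArg (CoalgebraStruct.counit (R := k)) e)⟩⟩
    rw [hC, show q.coeff 0 = 0 from (algebraMap k A).injective (h0.trans (map_zero _).symm), map_zero]

end Groth.Agent.Unip23
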