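import Groth.Agent.Lib.Unip23.Primitive
import Mathlib.RingTheory.Coalgebra.GroupLike
import Mathlib.LinearAlgebra.TensorProduct.Basis
import Mathlib.LinearAlgebra.FiniteDimensional.Basic

/-!
# Multiplicative type has no primitive elements
-/

universe u v w

open TensorProduct HopfRep

noncomputable section

namespace Groth.Agent.Unip23

variable {k : Type u} [Field k] {A : Type v} [CommRing A] [HopfAlgebra k A]

/-- A diagonalizable Hopf algebra has no non-zero primitive element. -/
theorem eq_zero_of_isPrim_of_span (h : IsDiagonalizable k A) {x : A} (hx : IsPrim (k := k) x) : x = 0 := by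
  classical
  let S : Set A := {a : A | IsGroupLikeElem k a}
  let b : Module.Basis S k A := Module.Basis.mk
    (linearIndepOn_isGroupLikeElem (R := k) (A := A)) (by simp only [id_eq, Subtype.range_coe_subtype]; exact h.ge)
  have hb : ∀ g : S, b g = g.1 := fun g => Module.Basis.mk_apply _ _ g
  let L : A →ₗ[k] A ⊗[k] A := CoalgebraStruct.comul - ((TensorProduct.mk k A A).flip 1 + TensorProduct.mk k A A 1)
  have h1 : (1 : A) ∈ S := ⟨Bialgebra.counit_one, Bialgebra.comul_one⟩
  let one : S := ⟨1, h1⟩
  have hL : ∀ g g' : S, ((b.tensorProduct b).repr (L (b g'))) (g, g) =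
      if g = one then (if g' = g then -1 else 0) else (if g' = g then 1 else 0) := by
    intro g g'
    have e : L (b g') = b g' ⊗ₜ[k] b g' - (b g' ⊗ₜ[k] b one + b one ⊗ₜ[k] b g') := by
      show CoalgebraStruct.comul (R := k) (b g') - _ = _
      rw [hb g', g'.2.comul_eq_tmul_self, hb one]
      rfl
    rw [e]
    simp only [map_sub, map_add, Finsupp.sub_apply, Finsupp.add_apply, Module.Basis.tensorProduct_repr_tmul_apply,
      Module.Basis.repr_self, Finsupp.single_apply, smul_eq_mul]
    by_cases h1 : g = one <;> by_cases h2 : g' = g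
    · subst h1; subst h2; simp
    · subst h1; simp [h2]
    · subst h2; simp [h1, Ne.symm h1]
    · simp [h1, h2, Ne.symm h1]
  refine b.repr.injective (Finsupp.ext fun g => ?_)
  rw [map_zero, Finsupp.zero_apply]
  have h0 : ((b.tensorProduct b).repr (L x)) (g, g) = 0 := by
    have : L x = 0 := sub_eq_zero.2 hx
    rw [this, map_zero, Finsupp.zero_apply]
  have hlin : ((b.tensorProduct b).repr (L x)) (g, g) = (if g = one then -1 else 1) * b.repr x g := by
    let F : A →ₗ[k] k := (Finsupp.lapply (g, g)) ∘ₗ (b.tensorProduct b).repr.toLinearMap ∘ₗ L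
    let G : A →ₗ[k] k := (if g = one then (-1 : k) else 1) • ((Finsupp.lapply g) ∘ₗ b.repr.toLinearMap)
    have : F = G := b.ext fun g' => by
      show ((b.tensorProduct b).repr (L (b g'))) (g, g) = _
      rw [hL]
      simp only [G, LinearMap.smul_apply, LinearMap.comp_apply, LinearEquiv.coe_coe, Finsupp.lapply_apply,
        Module.Basis.repr_self, Finsupp.single_apply]
      split_ifs <;> simp
    exact LinearMap.congr_fun this x
  rw [hlin] at h0
  split_ifs at h0 <;> simpa using h0

/-- No primitive elements after base change means none before. -/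
theorem eq_zero_of_isPrim_baseChange {K : Type u} [Field K] [Algebra k K]
    (h : ∀ y : K ⊗[k] A, IsPrim (k := K) y → y = 0) {x : A} (hx : IsPrim (k := k) x) : x = 0 := by
  refine Module.FaithfullyFlat.tensorProduct_mk_injective (A := k) (B := K) A ?_
  show (1 : K) ⊗ₜ[k] x = (1 : K) ⊗ₜ[k] (0 : A)
  rw [TensorProduct.tmul_zero]
  refine h _ ?_
  show CoalgebraStruct.comul (R := K) ((1 : K) ⊗ₜ[k] x) = _
  rw [comul_one_tmul, hx, map_add, distrib_tmul, distrib_tmul, Algebra.TensorProduct.one_def]

/-- A unipotent source and a primitive-free target: only the trivial map. -/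
theorem eq_counit_of_noPrim {C : Type v} [CommRing C] [HopfAlgebra k C] (hU : IsUnipotent k C)
    {M : Type w} [CommRing M] [HopfAlgebra k M] (hM : ∀ x : M, IsPrim (k := k) x → x = 0)
    (R : Type u) [CommRing R] [Algebra k R] (φ : R ⊗[k] C →ₐc[R] R ⊗[k] M) (c : C) :
    φ ((1 : R) ⊗ₜ[k] c) = algebraMap R (R ⊗[k] M) (algebraMap k R (CoalgebraStruct.counit c)) := by
  open Groth.Agent.CoalgH23 in
  have key : ∀ n, ∀ c ∈ fixFil k C C n,
      φ ((1 : R) ⊗ₜ[k] c) = algebraMap R (R ⊗[k] M) (algebraMap k R (CoalgebraStruct.counit c)) := by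
    intro n
    induction n with
    | zero => intro c hc; rw [(Submodule.mem_bot k).1 hc, TensorProduct.tmul_zero]; simp
    | succ n ih =>
      intro c hc
      obtain ⟨z, hz⟩ := mem_fixFil_succ.1 hc
      let T : C →ₗ[k] R ⊗[k] M := (φ : R ⊗[k] C →ₗ[R] R ⊗[k] M).restrictScalars k ∘ₗ (TensorProduct.mk k R C 1)
      let ε' : C →ₗ[k] R ⊗[k] M := (Algebra.linearMap R (R ⊗[k] M)).restrictScalars k ∘ₗ
        (Algebra.linearMap k R ∘ₗ CoalgebraStruct.counit)
      let Q : C →ₗ[k] C →ₗ[k] (R ⊗[k] M) ⊗[R] (R ⊗[k] M) :=
        (((TensorProduct.mk R (R ⊗[k] M) (R ⊗[k] M)).restrictScalars₁₂ k k).compl₁₂ T T)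
      let Q' : C ⊗[k] C →ₗ[k] (R ⊗[k] M) ⊗[R] (R ⊗[k] M) := TensorProduct.lift Q
      have hQ : Q' (CoalgebraStruct.comul (R := k) c) = CoalgebraStruct.comul (R := R) (T c) := by
        show _ = CoalgebraStruct.comul (R := R) (φ ((1 : R) ⊗ₜ[k] c))
        rw [← CoalgHomClass.map_comp_comul_apply φ, comul_one_tmul]
        induction CoalgebraStruct.comul (R := k) c with
        | zero => simp
        | add p q hp hq => simp only [map_add, hp, hq]
        | tmul p q => simp [Q', Q, T]
      let y := T c - ε' c
      have hone : T (1 : C) = 1 := map_one φ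
      have hy : regroup k M R (CoalgebraStruct.comul (R := R) y - (y ⊗ₜ[R] (1 : R ⊗[k] M) + (1 : R ⊗[k] M) ⊗ₜ[R] y)) = 0 := by
        have hcz : CoalgebraStruct.comul (R := k) c = c ⊗ₜ[k] (1 : C) + (fixFil k C C n).subtype.rTensor C z :=
          eq_add_of_sub_eq' hz.symm
        have hz2 : Q' ((fixFil k C C n).subtype.rTensor C z) =
            (1 : R ⊗[k] M) ⊗ₜ[R] T (lslice (CoalgebraStruct.counit (R := k)) ((fixFil k C C n).subtype.rTensor C z)) := by
          clear hcz hz
          induction z with
          | zero => simp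
          | add p q hp hq => simp only [map_add, TensorProduct.tmul_add, hp, hq]
          | tmul p q =>
            rw [LinearMap.rTensor_tmul, lslice_tmul, map_smul]
            show T p.1 ⊗ₜ[R] T q = _
            rw [show T p.1 = _ from ih p.1 p.2, Algebra.algebraMap_eq_smul_one (A := R ⊗[k] M), TensorProduct.smul_tmul,
              algebraMap_smul]
            rfl
        have hl : lslice (CoalgebraStruct.counit (R := k)) ((fixFil k C C n).subtype.rTensor C z) =
            c - CoalgebraStruct.counit (R := k) c • (1 : C) := by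
          have e := congrArg (lslice (CoalgebraStruct.counit (R := k))) hcz
          rw [lslice_counit, map_add, lslice_tmul] at e
          exact eq_sub_of_add_eq' e.symm
        have hcomul : CoalgebraStruct.comul (R := R) (ε' c) = ε' c ⊗ₜ[R] (1 : R ⊗[k] M) := by
          show CoalgebraStruct.comul (R := R) (algebraMap R (R ⊗[k] M) _) = algebraMap R (R ⊗[k] M) _ ⊗ₜ[R] _
          rw [Algebra.algebraMap_eq_smul_one, map_smul, Bialgebra.comul_one, ← TensorProduct.smul_tmul']
          rfl
        have e2 : T (CoalgebraStruct.counit (R := k) c • (1 : C)) = ε' c := by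
          rw [map_smul, hone]
          show _ = algebraMap R (R ⊗[k] M) (algebraMap k R _)
          rw [← IsScalarTower.algebraMap_apply, Algebra.algebraMap_eq_smul_one]
        rw [show CoalgebraStruct.comul (R := R) y = CoalgebraStruct.comul (R := R) (T c) - CoalgebraStruct.comul (R := R) (ε' c) from map_sub _ _ _,
          hcomul, ← hQ, hcz, map_add, hz2, hl, map_sub T, e2,
          show Q' (c ⊗ₜ[k] (1 : C)) = T c ⊗ₜ[R] T 1 from rfl, hone]
        simp only [y, TensorProduct.sub_tmul, TensorProduct.tmul_sub]
        rw [show ∀ a b c : (R ⊗[k] M) ⊗[R] (R ⊗[k] M), a + b - c - (a - c + b) = 0 from fun a b c => by abel, map_zero]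
      let L : M →ₗ[k] M ⊗[k] M := CoalgebraStruct.comul - ((TensorProduct.mk k M M).flip 1 + TensorProduct.mk k M M 1)
      have hker : LinearMap.ker L = ⊥ := LinearMap.ker_eq_bot'.2 fun m hm => hM m (sub_eq_zero.1 hm)
      have hLy : L.lTensor R y = 0 := by
        have hr : ∀ x : R ⊗[k] M, regroup k M R ((1 : R ⊗[k] M) ⊗ₜ[R] x) = (TensorProduct.mk k M M 1).lTensor R x := by
          intro x
          induction x with
          | zero => simp
          | add p q hp hq => simp only [map_add, hp, hq, TensorProduct.tmul_add]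
          | tmul r m => simp [Algebra.TensorProduct.one_def]
        refine Eq.trans ?_ hy
        rw [show L = devR k M - TensorProduct.mk k M M 1 from (sub_sub _ _ _).symm, LinearMap.lTensor_sub,
          LinearMap.sub_apply, ← regroup_devR, ← hr, ← sub_sub]
        exact (map_sub (regroup k M R) _ _).symm
      have h0 : y = 0 := by
        have := Module.Flat.lTensor_preserves_injective_linearMap (M := R) L (LinearMap.ker_eq_bot.1 hker)
        exact this (hLy.trans (map_zero _).symm)
      exact sub_eq_zero.1 h0
  obtain ⟨n, hn⟩ := exists_mem_fixFil hU c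
  exact key n c hn

end Groth.Agent.Unip23
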