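import Groth.Agent.Lib.Unip23.BaseChange
import Groth.Agent.Lib.Comodule.Basic
import Groth.Agent.S3268
import Mathlib.RingTheory.Valuation.ValuationRing
import Mathlib.GroupTheory.Solvable
import Mathlib.LinearAlgebra.Span.TensorProduct
import Mathlib.LinearAlgebra.Quotient.Basic

/-!
# Flags of trigonalizable groups
-/

universe u v w

open TensorProduct HopfRep WithConv
open scoped Groth.Agent.CoalgH23

noncomputable section

namespace Groth.Agent.Unip23

open Groth.Agent.CoalgH23

/-- A chain of subcomodules of the coordinate ring with steps of rank at most one, covering `s`. -/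
def HasFlag (R : Type u) [CommRing R] (H : Type v) [CommRing H] [HopfAlgebra R H] (s : Set H) : Prop :=
  ∃ (n : ℕ) (F : ℕ → Submodule R H), F 0 = ⊥ ∧ Monotone F ∧
    (∀ i, ∀ x ∈ F i, CoalgebraStruct.comul (R := R) x ∈ LinearMap.range ((F i).subtype.rTensor H)) ∧
    (∀ i, ∀ x ∈ F (i + 1), ∀ y ∈ F (i + 1), ∃ a b : R, (a = 1 ∨ b = 1) ∧ a • x + b • y ∈ F i) ∧
    s ⊆ F n

section Field

variable {k : Type u} [Field k] {A : Type v} [CommRing A] [HopfAlgebra k A]

theorem exists_normalized {V : Type w} [AddCommGroup V] [Module k V] {N : Submodule k V} {x y : V} {a b : k}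
    (h : a ≠ 0 ∨ b ≠ 0) (hxy : a • x + b • y ∈ N) : ∃ a b : k, (a = 1 ∨ b = 1) ∧ a • x + b • y ∈ N := by
  rcases h with h | h
  · exact ⟨1, a⁻¹ * b, Or.inl rfl, by
      simpa [smul_add, smul_smul, h] using N.smul_mem a⁻¹ hxy⟩
  · exact ⟨b⁻¹ * a, 1, Or.inr rfl, by
      simpa [smul_add, smul_smul, h] using N.smul_mem b⁻¹ hxy⟩

/-- Flags over every finite set make the group trigonalizable. -/
theorem isTrigonalizable_of_hasFlag (h : ∀ s : Set A, s.Finite → HasFlag k A s) : IsTrigonalizable k A := by
  intro V _ _ _ _ hV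
  classical
  have : Nontrivial V := hV.1
  obtain ⟨v₀, hv₀⟩ := exists_ne (0 : V)
  obtain ⟨φ, hφ⟩ := exists_dual_ne_zero (k := k) hv₀
  let m : V →ₗ[k] A := lslice φ ∘ₗ Comod.coact (k := k) (A := A)
  have hm : ∀ (χ : WithConv (A →ₗ[k] k)) (v : V), m (χ • v) = χ • m v := fun χ v => lslice_coact_smul φ χ v
  have hm0 : m v₀ ≠ 0 := fun e => hφ (by
    have h1 := congrArg (CoalgebraStruct.counit (R := k)) e
    rw [map_zero] at h1
    rw [← h1, LinearMap.comp_apply, apply_lslice]
    exact (congrArg φ (LinearMap.congr_fun actL_counit v₀)).symm)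
  obtain ⟨n, F, h0, -, hsub, hstep, hs⟩ := h _ (Set.finite_singleton (m v₀))
  have hcases : ∀ i, (∀ v, m v ∈ F i → v = 0) ∨ ∀ v, m v ∈ F i := by
    intro i
    rcases hV.2 ((F i).comap m) (isSubcomod_iff.2 fun χ v hv => by
      rw [Submodule.mem_comap, hm]; exact isSubcomod_iff.1 (hsub i) χ _ hv) with e | e
    · exact Or.inl fun v hv => (Submodule.mem_bot k).1 (e ▸ hv : v ∈ (⊥ : Submodule k V))
    · exact Or.inr fun v => (e.ge Submodule.mem_top : v ∈ (F i).comap m)
  have hinj : ∀ v, m v = 0 → v = 0 := by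
    intro v hv
    rcases hcases 0 with e | e
    · exact e v (by rw [hv]; exact zero_mem _)
    · exact absurd (by simpa [h0] using e v₀) hm0
  have hex : ∃ i, ∀ v, m v ∈ F i :=
    ⟨n, (hcases n).resolve_left fun e => hv₀ (e v₀ (hs rfl))⟩
  have hfind := Nat.find_spec hex
  obtain ⟨i, hi⟩ : ∃ i, Nat.find hex = i + 1 := by
    rcases hn : Nat.find hex with _ | i
    · rw [hn] at hfind
      exact absurd (by simpa [h0] using hfind v₀) hm0
    · exact ⟨i, rfl⟩
  rw [hi] at hfind
  have hlow := (hcases i).resolve_right (Nat.find_min hex (by omega))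
  refine finrank_eq_one v₀ hv₀ fun w => ?_
  obtain ⟨a, b, hab, hmem⟩ := hstep i _ (hfind v₀) _ (hfind w)
  rw [← map_smul, ← map_smul, ← map_add] at hmem
  have hz := hlow _ hmem
  have hb : b ≠ 0 := by
    rintro rfl
    rcases hab with rfl | hab
    · exact hv₀ (by simpa using hz)
    · exact zero_ne_one hab
  refine ⟨-(b⁻¹ * a), ?_⟩
  have := congrArg (b⁻¹ • ·) hz
  simp only [smul_add, smul_smul, inv_mul_cancel₀ hb, one_smul, smul_zero] at this
  rw [neg_smul]
  exact (eq_neg_of_add_eq_zero_right this).symm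

/-- A trigonalizable group has flags over every finite set. -/
theorem hasFlag_of_isTrigonalizable (hT : IsTrigonalizable k A) {s : Set A} (hs : s.Finite) : HasFlag k A s := by
  classical
  let E : Submodule (WithConv (A →ₗ[k] k)) A := Submodule.span _ s
  have hEfin : FiniteDimensional k (E.restrictScalars k) := by
    have hle : E.restrictScalars k ≤ ⨆ a : s, (Submodule.span (WithConv (A →ₗ[k] k)) {(a : A)}).restrictScalars k := by
      refine le_trans ?_ (restrictScalars_iSup_le _)
      intro x hx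
      refine (Submodule.span_le.2 ?_ : E ≤ _) hx
      intro a ha
      exact Submodule.mem_iSup_of_mem (⟨a, ha⟩ : s) (Submodule.mem_span_singleton_self a)
    have : Fintype s := hs.fintype
    have h : ∀ a : s, FiniteDimensional k
        ((Submodule.span (WithConv (A →ₗ[k] k)) {(a : A)}).restrictScalars k) := fun a => finite_span_singleton (a : A)
    exact Submodule.finiteDimensional_of_le hle
  let N := E.restrictScalars k
  have hN : IsSubcomod (k := k) (A := A) N := isSubcomod_restrictScalars E
  letI := Comodule.subComod N hN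
  obtain ⟨F, hmono, hsub, hrank⟩ := S3268.result k A hT N
  let d := Module.finrank k N
  refine ⟨d, fun i => (F (min i d)).map N.subtype, ?_, fun i j hij => Submodule.map_mono (hmono (by omega)), ?_, ?_, ?_⟩
  · have : F 0 = ⊥ := Submodule.finrank_eq_zero.1 (hrank 0 (Nat.zero_le _))
    simp [this]
  · intro i x hx
    obtain ⟨y, hy, rfl⟩ := hx
    obtain ⟨z, hz⟩ := hsub _ y hy
    refine ⟨((N.subtype.domRestrict (F (min i d))).codRestrict ((F (min i d)).map N.subtype)
      fun t => ⟨t, t.2, rfl⟩).rTensor A z, ?_⟩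
    rw [← LinearMap.rTensor_comp_apply,
      show ((F (min i d)).map N.subtype).subtype ∘ₗ _ = N.subtype ∘ₗ (F (min i d)).subtype from LinearMap.ext fun _ => rfl,
      LinearMap.rTensor_comp_apply, hz]
    exact Comodule.rTensor_coactRestrict N hN y
  · intro i x hx y hy
    rcases le_or_gt d i with hdi | hdi
    · refine ⟨1, 0, Or.inl rfl, ?_⟩
      simp only [one_smul, zero_smul, add_zero]
      simpa only [show min (i + 1) d = min i d by omega] using hx
    obtain ⟨x, hx, rfl⟩ := hx
    obtain ⟨y, hy, rfl⟩ := hy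
    rw [show min (i + 1) d = i + 1 by omega] at hx hy
    simp only [show min i d = i by omega]
    by_cases hxi : x ∈ F i
    · exact ⟨1, 0, Or.inl rfl, by rw [one_smul, zero_smul, add_zero]; exact Submodule.mem_map_of_mem hxi⟩
    have hle : F i ⊔ Submodule.span k {x} = F (i + 1) := by
      refine Submodule.eq_of_le_of_finrank_le (sup_le (hmono (Nat.le_succ i))
        ((Submodule.span_singleton_le_iff_mem _ _).2 hx)) ?_
      have hlt : F i < F i ⊔ Submodule.span k {x} := lt_of_le_of_ne le_sup_left fun e =>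
        hxi (e.ge (Submodule.mem_sup_right (Submodule.mem_span_singleton_self x)))
      have := Submodule.finrank_lt_finrank_of_lt hlt
      rw [hrank i (by omega)] at this
      rw [hrank (i + 1) (by omega)]
      omega
    rw [← hle] at hy
    obtain ⟨l, hl, t, ht, rfl⟩ := Submodule.mem_sup.1 hy
    obtain ⟨c, rfl⟩ := Submodule.mem_span_singleton.1 ht
    refine ⟨-c, 1, Or.inr rfl, ⟨l, hl, ?_⟩⟩
    simp
  · intro a ha
    refine ⟨⟨a, Submodule.subset_span ha⟩, ?_, rfl⟩
    have htop : F d = ⊤ := Submodule.eq_top_of_finrank_eq (hrank d le_rfl)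
    rw [show min d d = d from min_self d, htop]
    exact Submodule.mem_top

end Field

section BaseChange

variable {R : Type u} [CommRing R] {H : Type v} [CommRing H] [HopfAlgebra R H]
variable {F : Type u} [Field F] [Algebra R F]

/-- Flags pass to base changes. -/
theorem HasFlag.baseChange {s : Set H} (h : HasFlag R H s) {t : Set (F ⊗[R] H)}
    (ht : t ⊆ Submodule.span F ((fun x => (1 : F) ⊗ₜ[R] x) '' s)) : HasFlag F (F ⊗[R] H) t := by
  obtain ⟨n, L, h0, hmono, hsub, hstep, hs⟩ := h
  let L' : ℕ → Submodule F (F ⊗[R] H) := fun i => Submodule.span F ((fun x => (1 : F) ⊗ₜ[R] x) '' (L i : Set H))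
  refine ⟨n, L', ?_, fun i j hij => Submodule.span_mono (Set.image_mono (hmono hij)), ?_, ?_, ?_⟩
  · simp [L', h0]
  · intro i x hx
    induction hx using Submodule.span_induction with
    | mem x hx =>
      obtain ⟨y, hy, rfl⟩ := hx
      obtain ⟨z, hz⟩ := hsub i y hy
      rw [comul_one_tmul, ← hz]
      clear hz
      induction z with
      | zero => simp
      | add p q hp hq => simp only [map_add]; exact add_mem hp hq
      | tmul p q =>
        exact ⟨(⟨(1 : F) ⊗ₜ[R] p.1, Submodule.subset_span ⟨p.1, p.2, rfl⟩⟩ : L' i) ⊗ₜ[F] ((1 : F) ⊗ₜ[R] q),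
          by simp⟩
    | zero => simp
    | add x y _ _ hx hy => rw [map_add]; exact add_mem hx hy
    | smul c x _ hx => rw [map_smul]; exact Submodule.smul_mem _ c hx
  · intro i x hx y hy
    by_cases hall : ∀ e ∈ L (i + 1), (1 : F) ⊗ₜ[R] e ∈ L' i
    · have : L' (i + 1) ≤ L' i := Submodule.span_le.2 (by rintro _ ⟨e, he, rfl⟩; exact hall e he)
      exact ⟨1, 0, Or.inl rfl, by simpa using this hx⟩
    push Not at hall
    obtain ⟨e, he, hne⟩ := hall
    have hle : L' (i + 1) ≤ L' i ⊔ Submodule.span F {(1 : F) ⊗ₜ[R] e} := by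
      refine Submodule.span_le.2 ?_
      rintro _ ⟨z, hz, rfl⟩
      obtain ⟨a, b, hab, hmem⟩ := hstep i e he z hz
      have hmem' : algebraMap R F a • ((1 : F) ⊗ₜ[R] e) + algebraMap R F b • ((1 : F) ⊗ₜ[R] z) ∈ L' i := by
        rw [algebraMap_smul, algebraMap_smul, ← TensorProduct.tmul_smul, ← TensorProduct.tmul_smul,
          ← TensorProduct.tmul_add]
        exact Submodule.subset_span ⟨_, hmem, rfl⟩
      have hb : algebraMap R F b ≠ 0 := fun hb => hne (by
        rcases hab with rfl | rfl
        · simpa [hb] using hmem'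
        · simp at hb)
      refine Submodule.mem_sup.2 ⟨(algebraMap R F b)⁻¹ • (algebraMap R F a • ((1 : F) ⊗ₜ[R] e) +
        algebraMap R F b • ((1 : F) ⊗ₜ[R] z)), Submodule.smul_mem _ _ hmem',
        -(((algebraMap R F b)⁻¹ * algebraMap R F a) • ((1 : F) ⊗ₜ[R] e)),
        neg_mem (Submodule.smul_mem _ _ (Submodule.mem_span_singleton_self _)), ?_⟩
      simp only [smul_add, smul_smul, inv_mul_cancel₀ hb, one_smul]
      abel
    obtain ⟨l, hl, e1, he1, rfl⟩ := Submodule.mem_sup.1 (hle hx)
    obtain ⟨l', hl', e2, he2, rfl⟩ := Submodule.mem_sup.1 (hle hy)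
    obtain ⟨α, rfl⟩ := Submodule.mem_span_singleton.1 he1
    obtain ⟨β, rfl⟩ := Submodule.mem_span_singleton.1 he2
    by_cases hβ : β = 0
    · subst hβ
      exact ⟨0, 1, Or.inr rfl, by simpa using hl'⟩
    · refine exists_normalized (a := β) (b := -α) (Or.inl hβ) ?_
      rw [show β • (l + α • ((1 : F) ⊗ₜ[R] e)) + -α • (l' + β • ((1 : F) ⊗ₜ[R] e)) = β • l + -α • l' by
        simp only [smul_add, smul_smul, neg_mul, mul_comm β α, neg_smul]; abel]
      exact add_mem (Submodule.smul_mem _ _ hl) (Submodule.smul_mem _ _ hl')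
  · exact ht.trans (Submodule.span_mono (Set.image_mono hs))

/-- Flags on the fibre over the fraction field give flags over a valuation ring. -/
theorem hasFlag_of_baseChange [IsDomain R] [ValuationRing R] [IsFractionRing R F] [Module.Flat R H] {s : Set H}
    (h : HasFlag F (F ⊗[R] H) ((fun x => (1 : F) ⊗ₜ[R] x) '' s)) : HasFlag R H s := by
  obtain ⟨n, L, h0, hmono, hsub, hstep, hs⟩ := h
  let ι : H →ₗ[R] F ⊗[R] H := TensorProduct.mk R F H 1
  let Λ : ℕ → Submodule R H := fun i => ((L i).restrictScalars R).comap ι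
  have hι : Function.Injective ι := by
    have hi := Module.Flat.rTensor_preserves_injective_linearMap (M := H) (Algebra.linearMap R F)
      (IsFractionRing.injective R F)
    intro x y hxy
    apply (TensorProduct.lid R H).symm.injective
    apply hi
    simpa [ι] using hxy
  refine ⟨n, Λ, ?_, fun i j hij x hx => hmono hij hx, ?_, ?_, ?_⟩
  · refine eq_bot_iff.2 fun x hx => ?_
    have : ι x ∈ (⊥ : Submodule F (F ⊗[R] H)) := h0 ▸ hx
    exact (Submodule.mem_bot R).2 (hι (((Submodule.mem_bot F).1 this).trans (map_zero ι).symm))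
  · intro i x hx
    refine (rTensor_exact H (LinearMap.exact_subtype_mkQ (Λ i)) (Submodule.mkQ_surjective _) _).1 ?_
    let j : (H ⧸ Λ i) →ₗ[R] (F ⊗[R] H) ⧸ L i := (Λ i).liftQ ((L i).mkQ.restrictScalars R ∘ₗ ι) fun y hy =>
      (Submodule.Quotient.mk_eq_zero _).2 hy
    have hj : Function.Injective j := by
      rw [← LinearMap.ker_eq_bot, LinearMap.ker_eq_bot']
      intro z hz
      obtain ⟨y, rfl⟩ := Submodule.mkQ_surjective _ z
      exact (Submodule.Quotient.mk_eq_zero _).2 ((Submodule.Quotient.mk_eq_zero _).1 hz : ι y ∈ L i)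
    refine Module.Flat.rTensor_preserves_injective_linearMap (M := H) j hj ?_
    rw [map_zero, ← LinearMap.rTensor_comp_apply]
    let e := TensorProduct.AlgebraTensorModule.cancelBaseChange R F F ((F ⊗[R] H) ⧸ L i) H
    have key : ∀ z : H ⊗[R] H, e ((L i).mkQ.rTensor (F ⊗[R] H) (distrib R H F z)) =
        (j ∘ₗ (Λ i).mkQ).rTensor H z := by
      intro z
      induction z with
      | zero => simp
      | add p q hp hq => simp only [map_add, hp, hq]
      | tmul p q =>
        simp [e, j, ι]
    obtain ⟨w, hw⟩ := hsub i _ hx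
    rw [← key, ← comul_one_tmul, show CoalgebraStruct.comul (R := F) ((1 : F) ⊗ₜ[R] x) = _ from hw.symm,
      ← LinearMap.rTensor_comp_apply, show (L i).mkQ ∘ₗ (L i).subtype = 0 from
        LinearMap.ext fun y => (Submodule.Quotient.mk_eq_zero _).2 y.2,
      LinearMap.rTensor_zero, LinearMap.zero_apply, map_zero]
  · intro i x hx y hy
    obtain ⟨a, b, hab, hmem⟩ := hstep i _ hx _ hy
    obtain ⟨⟨a', da⟩, hda⟩ := IsLocalization.surj (nonZeroDivisors R) a
    obtain ⟨⟨b', db⟩, hdb⟩ := IsLocalization.surj (nonZeroDivisors R) b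
    have hmem' : (a' * db) • x + (b' * da) • y ∈ Λ i := by
      show ι _ ∈ L i
      rw [map_add, map_smul, map_smul, ← algebraMap_smul F (a' * (db : R)), ← algebraMap_smul F (b' * (da : R)),
        map_mul, map_mul, ← hda, ← hdb]
      convert Submodule.smul_mem _ (algebraMap R F (db : R) * algebraMap R F (da : R)) hmem using 1
      rw [smul_add, smul_smul, smul_smul]
      congr 2 <;> ring
    have hsat : ∀ (c : R), c ≠ 0 → ∀ z : H, c • z ∈ Λ i → z ∈ Λ i := by
      intro c hc z hz
      have hz' : algebraMap R F c • ι z ∈ L i := by rw [algebraMap_smul, ← map_smul]; exact hz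
      exact ((L i).smul_mem_iff ((map_ne_zero_iff _ (IsFractionRing.injective R F)).2 hc)).1 hz'
    have hne : a' * (db : R) ≠ 0 ∨ b' * (da : R) ≠ 0 := by
      have hd : ∀ d : nonZeroDivisors R, (d : R) ≠ 0 := fun d => nonZeroDivisors.ne_zero d.2
      rcases hab with rfl | rfl
      · left
        refine mul_ne_zero (fun e => hd da ?_) (hd db)
        rw [e, map_zero, one_mul] at hda
        exact IsFractionRing.injective R F (hda.trans (map_zero _).symm)
      · right
        refine mul_ne_zero (fun e => hd db ?_) (hd da)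
        rw [e, map_zero, one_mul] at hdb
        exact IsFractionRing.injective R F (hdb.trans (map_zero _).symm)
    obtain ⟨c, hc⟩ := ValuationRing.cond (a' * (db : R)) (b' * (da : R))
    rcases hc with hc | hc
    · refine ⟨1, c, Or.inl rfl, hsat _ (fun e => ?_) _ (?_ : (a' * (db : R)) • _ ∈ Λ i)⟩
      · rcases hne with h1 | h1
        · exact h1 e
        · exact h1 (by rw [← hc, e, zero_mul])
      · rwa [one_smul, smul_add, smul_smul, hc]
    · refine ⟨c, 1, Or.inr rfl, hsat _ (fun e => ?_) _ (?_ : (b' * (da : R)) • _ ∈ Λ i)⟩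
      · rcases hne with h1 | h1
        · exact h1 (by rw [← hc, e, zero_mul])
        · exact h1 e
      · rwa [one_smul, smul_add, smul_smul, hc]
  · intro x hx
    exact hs ⟨x, hx, rfl⟩

/-- Trigonalizability of a base change from flags. -/
theorem isTrigonalizable_baseChange {H : Type u} [CommRing H] [HopfAlgebra R H]
    (h : ∀ s : Set H, s.Finite → HasFlag R H s) : IsTrigonalizable F (F ⊗[R] H) := by
  refine isTrigonalizable_of_hasFlag fun t ht => ?_
  obtain ⟨s, hs, hst⟩ : ∃ s : Set H, s.Finite ∧ t ⊆ Submodule.span F ((fun x => (1 : F) ⊗ₜ[R] x) '' s) := by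
    classical
    induction t, ht using Set.Finite.induction_on with
    | empty => exact ⟨∅, Set.finite_empty, Set.empty_subset _⟩
    | @insert a t _ _ ih =>
      obtain ⟨s, hs, hst⟩ := ih
      obtain ⟨S, hS⟩ := TensorProduct.exists_finset a
      refine ⟨s ∪ (S.image Prod.snd : Finset H), hs.union (Finset.finite_toSet _), Set.insert_subset ?_ ?_⟩
      · rw [hS]
        refine Submodule.sum_mem _ fun i hi => ?_
        rw [show i.1 ⊗ₜ[R] i.2 = i.1 • ((1 : F) ⊗ₜ[R] i.2) by rw [TensorProduct.smul_tmul', smul_eq_mul, mul_one]]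
        exact Submodule.smul_mem _ _ (Submodule.subset_span
          ⟨i.2, Or.inr (Finset.mem_coe.2 (Finset.mem_image_of_mem Prod.snd hi)), rfl⟩)
      · exact hst.trans (Submodule.span_mono (Set.image_mono Set.subset_union_left))
  exact (h s hs).baseChange hst

end BaseChange

section Solvable

variable {k : Type u} [Field k] {A : Type v} [CommRing A] [HopfAlgebra k A]

/-- The points moving a chain down by `n`. -/
def lowGrp (F : ℕ → Submodule k A) (hsub : ∀ i, IsSubcomod (k := k) (A := A) (F i)) (n : ℕ) :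
    Subgroup (WithConv (A →ₐ[k] k)) where
  carrier := {g | ∀ i, ∀ v ∈ F (i + n), lin g • v - v ∈ F i}
  one_mem' i v _ := by rw [lin_one, one_smul, sub_self]; exact zero_mem _
  mul_mem' {g h} hg hh i v hv := by
    rw [lin_mul, mul_smul]
    have h1 : lin g • (lin h • v - v) - (lin h • v - v) ∈ F i :=
      sub_mem (isSubcomod_iff.1 (hsub i) _ _ (hh i v hv)) (hh i v hv)
    have h2 := add_mem (add_mem h1 (hg i v hv)) (hh i v hv)
    convert h2 using 1
    rw [smul_sub]
    abel
  inv_mem' {g} hg i v hv := by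
    have h : lin g⁻¹ * lin g = 1 := by rw [← lin_mul, inv_mul_cancel, lin_one]
    have h1 := neg_mem (isSubcomod_iff.1 (hsub i) (lin g⁻¹) _ (hg i v hv))
    rwa [smul_sub, ← mul_smul, h, one_smul, neg_sub] at h1

theorem isSolvable_points [Algebra.FiniteType k A] (hT : IsTrigonalizable k A) :
    Group.IsSolvable (WithConv (A →ₐ[k] k)) := by
  classical
  obtain ⟨s, hs⟩ := Algebra.FiniteType.out (R := k) (A := A)
  obtain ⟨n, F, h0, hmono, hsub', hstep, hsn⟩ := hasFlag_of_isTrigonalizable hT s.finite_toSet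
  have hsub : ∀ i, IsSubcomod (k := k) (A := A) (F i) := hsub'
  have hcomm : ∀ i, ∀ w ∈ F (i + 1), ∀ x y : WithConv (A →ₐ[k] k),
      lin x • lin y • w - lin y • lin x • w ∈ F i := by
    intro i w hw x y
    by_cases hwi : w ∈ F i
    · exact sub_mem (isSubcomod_iff.1 (hsub i) _ _ (isSubcomod_iff.1 (hsub i) _ _ hwi))
        (isSubcomod_iff.1 (hsub i) _ _ (isSubcomod_iff.1 (hsub i) _ _ hwi))
    have hsc : ∀ g : WithConv (A →ₐ[k] k), ∃ c : k, lin g • w - c • w ∈ F i := by
      intro g
      obtain ⟨a, b, hab, hmem⟩ := hstep i w hw _ (isSubcomod_iff.1 (hsub (i + 1)) (lin g) w hw)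
      have hb : b ≠ 0 := by
        rintro rfl
        rcases hab with rfl | hab
        · exact hwi (by simpa using hmem)
        · exact zero_ne_one hab
      refine ⟨-(b⁻¹ * a), ?_⟩
      have := (F i).smul_mem b⁻¹ hmem
      rw [smul_add, smul_smul, smul_smul, inv_mul_cancel₀ hb, one_smul] at this
      rwa [neg_smul, sub_neg_eq_add, add_comm]
    obtain ⟨c, hc⟩ := hsc x
    obtain ⟨d, hd⟩ := hsc y
    have hcs : ∀ (χ : WithConv (A →ₗ[k] k)) (r : k) (v : A), χ • r • v = r • χ • v := fun χ r v => by
      rw [smul_def, smul_def, map_smul, map_smul]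
    have h1 : lin x • lin y • w - (d * c) • w ∈ F i := by
      have := add_mem (isSubcomod_iff.1 (hsub i) (lin x) _ hd) ((F i).smul_mem d hc)
      rw [smul_sub, hcs, smul_sub, sub_add_sub_cancel] at this
      rwa [← mul_smul d c w] at this
    have h2 : lin y • lin x • w - (d * c) • w ∈ F i := by
      have := add_mem (isSubcomod_iff.1 (hsub i) (lin y) _ hc) ((F i).smul_mem c hd)
      rw [smul_sub, hcs, smul_sub, sub_add_sub_cancel] at this
      rwa [← mul_smul c d w, mul_comm c d] at this
    simpa using sub_mem h1 h2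
  have hder : ∀ m, derivedSeries (WithConv (A →ₐ[k] k)) (m + 1) ≤ lowGrp F hsub (m + 1) := by
    intro m
    induction m with
    | zero =>
      rw [derivedSeries_succ, Subgroup.commutator_le]
      intro x _ y _ i v hv
      set w := lin x⁻¹ • lin y⁻¹ • v with hw
      have hwm : w ∈ F (i + 1) :=
        isSubcomod_iff.1 (hsub _) _ _ (isSubcomod_iff.1 (hsub _) _ _ hv)
      have hv' : v = lin y • lin x • w := by
        rw [hw, ← mul_smul (lin x), ← lin_mul, mul_inv_cancel, lin_one, one_smul, ← mul_smul, ← lin_mul,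
          mul_inv_cancel, lin_one, one_smul]
      rw [commutatorElement_def, lin_mul, lin_mul, lin_mul, mul_smul, mul_smul, mul_smul, ← hw]
      nth_rewrite 1 [hv']
      exact hcomm i w hwm x y
    | succ m ih =>
      rw [derivedSeries_succ, Subgroup.commutator_le]
      intro x hx y hy i v hv
      have hx' := ih hx
      have hy' := ih hy
      set w := lin x⁻¹ • lin y⁻¹ • v with hw
      have hwm : w ∈ F (i + (m + 1 + 1)) :=
        isSubcomod_iff.1 (hsub _) _ _ (isSubcomod_iff.1 (hsub _) _ _ hv)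
      have hv' : v = lin y • lin x • w := by
        rw [hw, ← mul_smul (lin x), ← lin_mul, mul_inv_cancel, lin_one, one_smul, ← mul_smul, ← lin_mul,
          mul_inv_cancel, lin_one, one_smul]
      rw [commutatorElement_def, lin_mul, lin_mul, lin_mul, mul_smul, mul_smul, mul_smul, ← hw]
      nth_rewrite 1 [hv']
      have h1 : lin x • (lin y • w - w) - (lin y • w - w) ∈ F i :=
        hx' i _ (hmono (show i + 1 ≤ i + (m + 1) by omega)
          (hy' (i + 1) _ (by rwa [show i + 1 + (m + 1) = i + (m + 1 + 1) by omega])))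
      have h2 : lin y • (lin x • w - w) - (lin x • w - w) ∈ F i :=
        hy' i _ (hmono (show i + 1 ≤ i + (m + 1) by omega)
          (hx' (i + 1) _ (by rwa [show i + 1 + (m + 1) = i + (m + 1 + 1) by omega])))
      convert sub_mem h1 h2 using 1
      rw [smul_sub, smul_sub]
      abel
  refine ⟨⟨n + 1, ?_⟩⟩
  refine eq_bot_iff.2 fun g hg => ?_
  rw [Subgroup.mem_bot]
  refine ofConv_injective (AlgHom.ext_of_adjoin_eq_top hs fun v hv => ?_)
  have h := hder n hg 0 v (hmono (by omega) (hsn hv))
  rw [h0, Submodule.mem_bot, sub_eq_zero] at h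
  have h' := congrArg (CoalgebraStruct.counit (R := k)) h
  rw [smul_def] at h'
  show g.ofConv v = algebraMap k k (CoalgebraStruct.counit v)
  rw [← h']
  have e := convMul_apply_slice (1 : WithConv (A →ₗ[k] k)) (lin g) v
  rw [one_mul, lin_apply] at e
  have e' : g.ofConv v = CoalgebraStruct.counit (slice (lin g).ofConv (CoalgebraStruct.comul (R := k) v)) := by
    simpa [LinearMap.convOne_def] using e
  exact e'

end Solvable

end Groth.Agent.Unip23
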