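import Groth.Agent.Lib.Unip23.Primitive
import Groth.Agent.Lib.Unip23.Flag
import Groth.Agent.Lib.MultType.QuasiIso
import Mathlib.RingTheory.Bialgebra.MonoidAlgebra
import Mathlib.RingTheory.HopfAlgebra.GroupLike
import Mathlib.GroupTheory.Finiteness

/-!
# Coinvariants and the diagonalizable quotient of a trigonalizable group
-/

universe u v w

open TensorProduct HopfRep WithConv
open scoped Groth.Agent.CoalgH23

noncomputable section

namespace Groth.Agent.Unip23

open Groth.Agent.CoalgH23

/-- An element invariant under the kernel of `ψ` lies in the range of `ψ`. -/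
theorem mem_range_of_coinvariant {k : Type u} [Field k] {A : Type v} [CommRing A] [HopfAlgebra k A]
    [Algebra.FiniteType k A] {B : Type w} [CommRing B] [HopfAlgebra k B] [Algebra.FiniteType k B]
    (ψ : B →ₐc[k] A) (J : Ideal A) (hJ : J ≤ Ideal.map (ψ : B →+* A) (RingHom.ker (Bialgebra.counitAlgHom k B)))
    {b : A} (hb : (Ideal.Quotient.mkₐ k J).toLinearMap.lTensor A (CoalgebraStruct.comul (R := k) b) = b ⊗ₜ[k] 1) :
    b ∈ (ψ : B →ₐ[k] A).range := by
  have hff := HopfFF23.faithfullyFlat_range_val ψ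
  let P : Subalgebra k A := (ψ : B →ₐ[k] A).range
  haveI : Module.FaithfullyFlat P A := hff
  let xL : A →ₐ[k] A ⊗[P] A := (Algebra.TensorProduct.includeLeft : A →ₐ[P] A ⊗[P] A).restrictScalars k
  let xR : A →ₐ[k] A ⊗[P] A := (Algebra.TensorProduct.includeRight : A →ₐ[P] A ⊗[P] A).restrictScalars k
  have hP : xL.comp (ψ : B →ₐ[k] A) = xR.comp (ψ : B →ₐ[k] A) := by
    refine AlgHom.ext fun c => ?_
    show ψ c ⊗ₜ[P] (1 : A) = (1 : A) ⊗ₜ[P] ψ c
    rw [show ψ c = (⟨ψ c, c, rfl⟩ : P) • (1 : A) by simp [Subalgebra.smul_def], TensorProduct.smul_tmul]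
  let d : A →ₐ[k] A ⊗[P] A := (toConv (xL.comp (HopfAlgebra.antipodeAlgHom k A)) * toConv xR).ofConv
  have hdψ : d.comp (ψ : B →ₐ[k] A) = (1 : WithConv (B →ₐ[k] A ⊗[P] A)).ofConv := by
    have e0 : (HopfAlgebra.antipodeAlgHom k A).comp (ψ : B →ₐ[k] A) =
        (ψ : B →ₐ[k] A).comp (HopfAlgebra.antipodeAlgHom k B) :=
      AlgHom.ext fun c => (HopfFF23.map_antipode ψ c).symm
    have e1 := congrArg (fun z : WithConv (B →ₐ[k] B) => toConv ((xR.comp (ψ : B →ₐ[k] A)).comp z.ofConv))
      (HopfFF23.conv_antipode_mul (R := k) (C := B))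
    simp only [AlgHom.comp_convMul_distrib, HopfFF23.comp_convOne] at e1
    rw [AlgHom.convMul_comp_bialgHom_distrib, ofConv_toConv, ofConv_toConv, AlgHom.comp_assoc, e0,
      ← AlgHom.comp_assoc, hP]
    exact congrArg WithConv.ofConv e1
  have hd : ∀ a ∈ J, d a = 0 := by
    intro a ha
    refine (Ideal.map_le_iff_le_comap.2 (fun c hc => ?_) : _ ≤ RingHom.ker d) (hJ ha)
    show d (ψ c) = 0
    have h := AlgHom.congr_fun hdψ c
    rw [AlgHom.comp_apply] at h
    refine h.trans ?_
    show algebraMap k (A ⊗[P] A) (CoalgebraStruct.counit c) = 0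
    rw [show CoalgebraStruct.counit (R := k) c = 0 from hc, map_zero]
  let d' : (A ⧸ J) →ₐ[k] A ⊗[P] A := Ideal.Quotient.liftₐ J d hd
  have hLR : toConv xR = toConv xL * toConv d := by
    have h1 : toConv xL * toConv (xL.comp (HopfAlgebra.antipodeAlgHom k A)) = 1 := by
      have := congrArg (fun z : WithConv (A →ₐ[k] A) => toConv (xL.comp z.ofConv))
        (conv_mul_antipode (k := k) (A := A))
      simp only [AlgHom.comp_convMul_distrib, HopfFF23.comp_convOne] at this
      exact this
    show _ = toConv xL * (toConv (xL.comp (HopfAlgebra.antipodeAlgHom k A)) * toConv xR)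
    exact ((congrArg (· * toConv xR) h1).trans (one_mul (toConv xR))).symm.trans
      (mul_assoc (G := WithConv (A →ₐ[k] A ⊗[P] A)) _ _ _)
  have key : xR b = xL b := by
    have h1 := AlgHom.congr_fun (congrArg WithConv.ofConv hLR) b
    rw [ofConv_toConv] at h1
    rw [h1]
    show (toConv xL * toConv d) b = _
    rw [AlgHom.convMul_apply]
    have h2 : ∀ z : A ⊗[k] A, Algebra.TensorProduct.lift xL d (fun _ _ => Commute.all _ _) z =
        Algebra.TensorProduct.lift xL d' (fun _ _ => Commute.all _ _)
          ((Ideal.Quotient.mkₐ k J).toLinearMap.lTensor A z) := by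
      intro z
      induction z with
      | zero => simp
      | add p q hp hq => simp only [map_add, hp, hq]
      | tmul p q =>
        simp only [LinearMap.lTensor_tmul, Algebra.TensorProduct.lift_tmul, d', Ideal.Quotient.liftₐ_apply]
        rfl
    refine (h2 _).trans ?_
    rw [hb, Algebra.TensorProduct.lift_tmul, map_one, mul_one]
  let R : Submodule P A := LinearMap.range (Algebra.linearMap P A)
  have h1 : R.mkQ.lTensor A ((1 : A) ⊗ₜ[P] b) = R.mkQ.lTensor A (b ⊗ₜ[P] (1 : A)) := congrArg _ key
  have h0 : R.mkQ (1 : A) = 0 := (Submodule.Quotient.mk_eq_zero R).2 ⟨1, map_one (algebraMap P A)⟩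
  have h2 : (1 : A) ⊗ₜ[P] R.mkQ b = (1 : A) ⊗ₜ[P] 0 := by
    rw [LinearMap.lTensor_tmul, LinearMap.lTensor_tmul] at h1
    rw [h1, h0, TensorProduct.tmul_zero, TensorProduct.tmul_zero]
  obtain ⟨p, hp⟩ := (Submodule.Quotient.mk_eq_zero R).1
    (Module.FaithfullyFlat.tensorProduct_mk_injective (A := P) (B := A) _ h2)
  exact hp ▸ p.2

section Eigen

variable {k : Type u} [Field k] {A : Type u} [CommRing A] [HopfAlgebra k A]

/-- In a trigonalizable group each step of a flag has a character. -/
theorem exists_groupLike_step {F : ℕ → Submodule k A}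
    (hsub : ∀ i, IsSubcomod (k := k) (A := A) (F i))
    (hstep : ∀ i, ∀ x ∈ F (i + 1), ∀ y ∈ F (i + 1), ∃ a b : k, (a = 1 ∨ b = 1) ∧ a • x + b • y ∈ F i)
    {i : ℕ} {e : A} (he : e ∈ F (i + 1)) (hei : e ∉ F i) :
    ∃ g : GroupLike k A, CoalgebraStruct.comul (R := k) e - e ⊗ₜ[k] (g : A) ∈
      LinearMap.range ((F i).subtype.rTensor A) := by
  obtain ⟨φ₀, hφ₀, hle⟩ := Submodule.exists_le_ker_of_notMem hei
  let φ : A →ₗ[k] k := (φ₀ e)⁻¹ • φ₀
  have hφe : φ e = 1 := by simp [φ, inv_mul_cancel₀ hφ₀]
  have hφF : ∀ y ∈ F i, φ y = 0 := fun y hy => by simp [φ, show φ₀ y = 0 from hle hy]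
  let g : A := lslice φ (CoalgebraStruct.comul (R := k) e)
  have hsc : ∀ χ : WithConv (A →ₗ[k] k), χ • e - χ.ofConv g • e ∈ F i := by
    intro χ
    obtain ⟨a, b, hab, hmem⟩ := hstep i e he _ (isSubcomod_iff.1 (hsub (i + 1)) χ e he)
    have hb : b ≠ 0 := by
      rintro rfl
      rcases hab with rfl | hab
      · exact hei (by simpa using hmem)
      · exact zero_ne_one hab
    have h1 := (F i).smul_mem b⁻¹ hmem
    rw [smul_add, smul_smul, smul_smul, inv_mul_cancel₀ hb, one_smul] at h1
    have h2 := hφF _ h1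
    rw [map_add, map_smul, hφe, smul_eq_mul, mul_one, smul_def, ← apply_lslice] at h2
    rw [show χ.ofConv g = -(b⁻¹ * a) from (eq_neg_of_add_eq_zero_right h2), neg_smul, sub_neg_eq_add, add_comm]
    exact h1
  have hkill : ∀ y ∈ F i, lslice φ (CoalgebraStruct.comul (R := k) y) = 0 := by
    intro y hy
    obtain ⟨z, hz⟩ := hsub i y hy
    rw [show CoalgebraStruct.comul (R := k) y = _ from hz.symm]
    clear hz
    induction z with
    | zero => simp
    | add p q hp hq => simp only [map_add, hp, hq, add_zero]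
    | tmul p q => simp [lslice, hφF p.1 p.2]
  refine ⟨⟨g, ⟨?_, ?_⟩⟩, (mem_range_rTensor_iff _ _).2 fun χ => ?_⟩
  · show CoalgebraStruct.counit (R := k) g = 1
    rw [apply_lslice]
    exact (congrArg φ (LinearMap.congr_fun actL_counit e)).trans hφe
  · refine eq_of_slice_eq fun χ => ?_
    have h := lslice_coact_smul φ (toConv χ) e
    rw [show slice χ (g ⊗ₜ[k] g) = χ g • g by simp [slice]]
    refine (Eq.symm h).trans ?_
    have h3 := hkill _ (hsc (toConv χ))
    rw [map_sub, map_sub, sub_eq_zero] at h3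
    refine h3.trans ?_
    rw [map_smul, map_smul]
  · rw [map_sub, show slice χ (e ⊗ₜ[k] g) = χ g • e by simp [slice]]
    exact hsc (toConv χ)

/-- The map from the group algebra of the group-like elements. -/
abbrev groupLikeHom (k : Type u) [Field k] (A : Type u) [CommRing A] [HopfAlgebra k A] :
    MonoidAlgebra k (GroupLike k A) →ₐc[k] A := MonoidAlgebra.liftGroupLikeBialgHom

theorem groupLikeHom_single (g : GroupLike k A) (c : k) :
    groupLikeHom k A (MonoidAlgebra.single g c) = c • (g : A) := by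
  show MonoidAlgebra.lift k A (GroupLike k A) _ (MonoidAlgebra.single g c) = _
  rw [MonoidAlgebra.lift_single]
  rfl

theorem groupLikeHom_injective : Function.Injective (groupLikeHom k A) := by
  have e : ∀ x, groupLikeHom k A x = Finsupp.linearCombination k (GroupLike.val (R := k) (A := A)) x.coeff := by
    intro x
    induction x using MonoidAlgebra.induction_linear with
    | zero => simp
    | add p q hp hq => simp [map_add, hp, hq]
    | single g c => simp [groupLikeHom_single]
  intro x y h
  rw [e, e] at h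
  exact MonoidAlgebra.coeff_injective (linearIndep_groupLikeVal.finsuppLinearCombination_injective h)

/-- A group with a unipotent kernel and diagonalizable quotient is trigonalizable. -/
theorem isTrigonalizable_of_kernel [Algebra.FiniteType k A] {B : Type u} [CommRing B] [HopfAlgebra k B]
    (ψ : B →ₐc[k] A) (hB : IsDiagonalizable k B) (J : Ideal A) [J.IsHopfIdeal k]
    (hJ : J = Ideal.map (ψ : B →+* A) (RingHom.ker (Bialgebra.counitAlgHom k B)))
    (hU : IsUnipotent k (A ⧸ J)) : IsTrigonalizable k A := by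
  classical
  intro V _ _ c _ hV
  have : Nontrivial V := hV.1
  let π : A →ₗc[k] A ⧸ J := (Bialgebra.Quotient.mkBialgHom (R := k) J : A →ₗc[k] A ⧸ J)
  let cD : Comod k (A ⧸ J) V := pushComod π c
  obtain ⟨w, hw, hw0⟩ := Submodule.exists_mem_ne_zero_of_ne_bot (@hU V _ _ cD inferInstance inferInstance)
  have hw' : (π : A →ₗ[k] A ⧸ J).lTensor V (Comod.coact (k := k) (A := A) w) = w ⊗ₜ[k] 1 := hw
  have hgen : J = Ideal.span ((fun g : GroupLike k B => ψ (g : B) - 1) '' Set.univ) := by
    rw [hJ]
    refine le_antisymm (Ideal.map_le_iff_le_comap.2 fun x hx => ?_) (Ideal.span_le.2 ?_)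
    · have hxs : x ∈ Submodule.span k (Set.range (GroupLike.val (R := k) (A := B))) := by
        rw [show Set.range (GroupLike.val (R := k) (A := B)) = {a : B | IsGroupLikeElem k a} from
          Set.ext fun a => ⟨fun ⟨g, hg⟩ => hg ▸ g.2, fun ha => ⟨⟨a, ha⟩, rfl⟩⟩]
        exact hB.ge (Submodule.mem_top)
      obtain ⟨l, hl⟩ := (Finsupp.mem_span_range_iff_exists_finsupp).1 hxs
      show ψ x ∈ Ideal.span ((fun g : GroupLike k B => ψ (g : B) - 1) '' Set.univ)
      have hc : CoalgebraStruct.counit (R := k) x = l.sum fun _ a => a := by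
        rw [← hl, map_finsuppSum]
        exact Finsupp.sum_congr fun g _ => by rw [map_smul, g.2.counit_eq_one, smul_eq_mul, mul_one]
      have hx' : ψ x = l.sum fun g a => algebraMap k A a * (ψ (g : B) - 1) := by
        have hc0 : algebraMap k A (l.sum fun _ a => a) = 0 := by
          rw [← hc, show CoalgebraStruct.counit (R := k) x = 0 from hx, map_zero]
        rw [← hl, map_finsuppSum]
        simp only [mul_sub, mul_one, Finsupp.sum_sub, ← map_finsuppSum (algebraMap k A), hc0, sub_zero,
          Algebra.smul_def, map_mul, AlgHomClass.commutes]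
      rw [hx']
      exact Submodule.sum_mem _ fun g _ => Ideal.mul_mem_left _ _ (Ideal.subset_span ⟨g, trivial, rfl⟩)
    · rintro _ ⟨g, -, rfl⟩
      have : (g : B) - 1 ∈ RingHom.ker (Bialgebra.counitAlgHom k B) := by
        show CoalgebraStruct.counit (R := k) ((g : B) - 1) = 0
        rw [map_sub, g.2.counit_eq_one, Bialgebra.counit_one, sub_self]
      have h2 := Ideal.mem_map_of_mem (ψ : B →+* A) this
      rw [map_sub, map_one] at h2
      exact h2
  haveI : IsNoetherianRing A := Algebra.FiniteType.isNoetherianRing k A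
  obtain ⟨T, hTsub, hT⟩ := (Submodule.fg_span_iff_fg_span_finset_subset (R := A) _).1
    (IsNoetherian.noetherian (Ideal.span ((fun g : GroupLike k B => ψ (g : B) - 1) '' Set.univ)))
  choose! τ hτ using fun (t : A) (ht : t ∈ (fun g : GroupLike k B => ψ (g : B) - 1) '' Set.univ) => ht
  let toA : GroupLike k B → GroupLike k A := fun g => ⟨ψ (g : B), g.2.map ψ⟩
  let H : Subgroup (GroupLike k A) := Subgroup.closure ((T.image fun t => toA (τ t) : Finset _) : Set (GroupLike k A))
  haveI : Group.FG H := Group.closure_finset_fg _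
  haveI : Monoid.FG H := Group.fg_iff_monoid_fg.1 inferInstance
  let ψ' : MonoidAlgebra k H →ₐc[k] A := (groupLikeHom k A).comp (MonoidAlgebra.mapDomainBialgHom k H.subtype)
  have hψ' : ∀ h : H, ψ' (MonoidAlgebra.single h 1) = ((h : GroupLike k A) : A) := fun h => by
    show groupLikeHom k A (MonoidAlgebra.mapDomainBialgHom k H.subtype (MonoidAlgebra.single h 1)) = _
    rw [MonoidAlgebra.mapDomainBialgHom_single, groupLikeHom_single, one_smul]
    rfl
  have hJ' : J ≤ Ideal.map (ψ' : MonoidAlgebra k H →+* A) (RingHom.ker (Bialgebra.counitAlgHom k (MonoidAlgebra k H))) := by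
    rw [hgen]
    show Submodule.span A _ ≤ _
    rw [hT]
    refine Ideal.span_le.2 fun t ht => ?_
    obtain ⟨-, hτ'⟩ := hτ t (hTsub ht)
    rw [SetLike.mem_coe, ← hτ']
    let h : H := ⟨toA (τ t), Subgroup.subset_closure (Finset.mem_coe.2 (Finset.mem_image_of_mem (fun t => toA (τ t)) ht))⟩
    have hmem : MonoidAlgebra.single h (1 : k) - 1 ∈ RingHom.ker (Bialgebra.counitAlgHom k (MonoidAlgebra k H)) := by
      show CoalgebraStruct.counit (R := k) (MonoidAlgebra.single h (1 : k) - 1) = 0
      rw [map_sub, (MonoidAlgebra.isGroupLikeElem_single_one h).counit_eq_one, Bialgebra.counit_one, sub_self]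
    have h2 := Ideal.mem_map_of_mem (ψ' : MonoidAlgebra k H →+* A) hmem
    rw [map_sub, map_one] at h2
    rwa [show (ψ' : MonoidAlgebra k H →+* A) (MonoidAlgebra.single h 1) = ψ (τ t : B) from hψ' h] at h2
  let G := GroupLike k A
  let Sp : Submodule k A := Submodule.span k (Set.range (GroupLike.val (R := k) (A := A)))
  have hcoef : ∀ φ : V →ₗ[k] k, lslice φ (Comod.coact (k := k) (A := A) w) ∈ Sp := by
    intro φ
    let m : V →ₗ[k] A := lslice φ ∘ₗ Comod.coact (k := k) (A := A)
    have hm : CoalgebraStruct.comul (R := k) (m w) = m.rTensor A (Comod.coact (k := k) (A := A) w) :=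
      eq_of_slice_eq fun χ => by rw [slice_rTensor]; exact (lslice_coact_smul φ (toConv χ) w).symm
    obtain ⟨q, hq⟩ := mem_range_of_coinvariant ψ' J hJ' (b := m w) (by
      rw [hm, show (Ideal.Quotient.mkₐ k J).toLinearMap = (π : A →ₗ[k] A ⧸ J) from rfl,
        ← LinearMap.comp_apply, LinearMap.lTensor_comp_rTensor, ← LinearMap.rTensor_comp_lTensor,
        LinearMap.comp_apply, hw', LinearMap.rTensor_tmul])
    show m w ∈ Sp
    rw [← hq]
    show ψ' q ∈ Sp
    clear hq
    induction q using MonoidAlgebra.induction_linear with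
    | zero => rw [map_zero]; exact zero_mem _
    | add p q hp hq => rw [map_add]; exact add_mem hp hq
    | single g r =>
      rw [show MonoidAlgebra.single g r = r • MonoidAlgebra.single g (1 : k) by simp, map_smul]
      exact Submodule.smul_mem _ _ (Submodule.subset_span ⟨(g : G), (hψ' g).symm⟩)
  obtain ⟨q, hq⟩ := (Finsupp.linearCombination k (GroupLike.val (R := k) (A := A))).exists_leftInverse_of_injective
    (LinearMap.ker_eq_bot.2 linearIndep_groupLikeVal.finsuppLinearCombination_injective)
  let δ : G → WithConv (A →ₗ[k] k) := fun g => toConv (Finsupp.lapply g ∘ₗ q)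
  have hδ : ∀ g h : G, (δ g).ofConv (h : A) = if h = g then 1 else 0 := fun g h => by
    have h1 := LinearMap.congr_fun hq (Finsupp.single h 1)
    rw [LinearMap.comp_apply, Finsupp.linearCombination_single, one_smul, LinearMap.id_apply] at h1
    simp [δ, h1, Finsupp.single_apply]
  obtain ⟨g, hg⟩ : ∃ g : G, δ g • w ≠ 0 := by
    by_contra! h
    refine hw0 ((Module.forall_dual_apply_eq_zero_iff k w).1 fun φ => ?_)
    obtain ⟨l, hl⟩ := (Finsupp.mem_span_range_iff_exists_finsupp).1 (hcoef φ)
    have hl' : q (lslice φ (Comod.coact (k := k) (A := A) w)) = l := by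
      rw [← hl]
      exact LinearMap.congr_fun hq l
    have hl0 : l = 0 := Finsupp.ext fun g => by
      rw [← hl']
      show (δ g).ofConv _ = 0
      rw [apply_lslice, ← smul_def, h g, map_zero]
    rw [← congrArg φ (one_smul (WithConv (A →ₗ[k] k)) w), smul_def, ← apply_lslice, ← hl, hl0, Finsupp.sum_zero_index,
      map_zero]
  have heig : ∀ χ : WithConv (A →ₗ[k] k), χ • δ g • w = χ.ofConv (g : A) • δ g • w := by
    intro χ
    have key : ∀ x ∈ Sp, (χ * δ g).ofConv x = (χ.ofConv (g : A) • δ g).ofConv x := by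
      intro x hx
      induction hx using Submodule.span_induction with
      | mem x hx =>
        obtain ⟨h, rfl⟩ := hx
        rw [convMul_apply_slice, h.2.comul_eq_tmul_self, slice_tmul', map_smul, WithConv.ofConv_smul,
          LinearMap.smul_apply, hδ]
        split_ifs with e
        · subst e; simp
        · simp
      | zero => simp
      | add a b _ _ ha hb => simp only [map_add, ha, hb]
      | smul r a _ ha => simp only [map_smul, ha]
    rw [← mul_smul]
    refine sub_eq_zero.1 ((Module.forall_dual_apply_eq_zero_iff k _).1 fun φ => ?_)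
    rw [map_sub, map_smul φ (χ.ofConv (g : A)), smul_def, smul_def, ← apply_lslice, ← apply_lslice, key _ (hcoef φ), WithConv.ofConv_smul,
      LinearMap.smul_apply, sub_self]
  refine finrank_eq_one (δ g • w) hg fun v => ?_
  have hsub : IsSubcomod (k := k) (A := A) (Submodule.span k {δ g • w}) := isSubcomod_iff.2 fun χ x hx => by
    obtain ⟨r, rfl⟩ := Submodule.mem_span_singleton.1 hx
    have : χ • r • δ g • w = r • χ • δ g • w := by rw [smul_def χ, smul_def χ, map_smul, map_smul]
    rw [this, heig]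
    exact Submodule.smul_mem _ _ (Submodule.smul_mem _ _ (Submodule.mem_span_singleton_self _))
  have htop := (hV.2 _ hsub).resolve_left (fun e => hg (Submodule.span_singleton_eq_bot.1 e))
  exact Submodule.mem_span_singleton.1 (htop.ge Submodule.mem_top)

/-- A trigonalizable group is unipotent over its diagonalizable quotient. -/
theorem isUnipotent_kernel [Algebra.FiniteType k A] (hT : IsTrigonalizable k A) (J : Ideal A) [J.IsHopfIdeal k]
    (hJ : ∀ g : GroupLike k A, (g : A) - 1 ∈ J) : IsUnipotent k (A ⧸ J) := by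
  refine isUnipotent_of_exhaustive fun b => ?_
  obtain ⟨a, rfl⟩ := Ideal.Quotient.mk_surjective b
  obtain ⟨n, F, h0, -, hsub, hstep, hs⟩ := hasFlag_of_isTrigonalizable hT (Set.finite_singleton a)
  have key : ∀ i, ∀ x ∈ F i, Ideal.Quotient.mk J x ∈ fixFil k (A ⧸ J) (A ⧸ J) i := by
    intro i
    induction i with
    | zero => intro x hx; rw [h0, Submodule.mem_bot] at hx; rw [hx, map_zero]; exact zero_mem _
    | succ i ih =>
      intro x hx
      by_cases hxi : x ∈ F i
      · exact fixFil_mono (Nat.le_succ i) (ih x hxi)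
      obtain ⟨g, z, hz⟩ := exists_groupLike_step hsub hstep hx hxi
      let p : A →ₗ[k] A ⧸ J := (Ideal.Quotient.mkₐ k J).toLinearMap
      have hg : p (g : A) = 1 := by
        show Ideal.Quotient.mk J (g : A) = 1
        rw [← map_one (Ideal.Quotient.mk J), Ideal.Quotient.eq]
        exact hJ g
      refine mem_fixFil_succ.2 ?_
      show CoalgebraStruct.comul (R := k) (p x) - p x ⊗ₜ[k] (1 : A ⧸ J) ∈ _
      rw [show CoalgebraStruct.comul (R := k) (p x) - p x ⊗ₜ[k] (1 : A ⧸ J) =
        TensorProduct.map p p ((F i).subtype.rTensor A z) by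
          rw [hz, map_sub, TensorProduct.map_tmul, hg, comul_mk J x]]
      clear hz
      induction z with
      | zero => simp
      | add r q hr hq => simp only [map_add]; exact add_mem hr hq
      | tmul r q => exact ⟨⟨p r.1, ih r.1 r.2⟩ ⊗ₜ[k] p q, rfl⟩
  exact ⟨n, key n a (hs rfl)⟩

end Eigen

end Groth.Agent.Unip23
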